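import Cfsg.Agent.Lib.Fusion.SmallCentre.Two
import Cfsg.Agent.Lib.Fusion.SmallCentre.AxisBound
import Cfsg.Agent.Lib.Fusion.SmallCentre.Odd
import Cfsg.Agent.Lib.Fusion.SelfAut
import Cfsg.Agent.Lib.PGroup.CyclicMax

/-!
`p`-groups with an abelian subgroup `A` of index `p`, and saturated fusion systems in which `A` is not
essential: the shape of the essential subgroups.
-/

set_option autoImplicit false
set_option linter.unusedSectionVars false

open scoped commutatorElement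

namespace Cfsg.AbelianIndex

open Cfsg FusionSystem SmallCentre

variable {Ω : Type*} [Group Ω] {S : Subgroup Ω} [Finite S] {p : ℕ} [Fact p.Prime]

/-- The standing hypotheses on the group. -/
structure Hyp0 (p : ℕ) (F : FusionSystem S) (A : Subgroup Ω) : Prop where
  pg : IsPGroup p S
  sat : F.IsSaturated p
  nonab : ¬ IsMulCommutative S
  le : A ≤ S
  comm : IsMulCommutative A
  idx : (A.subgroupOf S).index = p

/-- The standing hypotheses, with trivial core and `A` not essential. -/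
structure Hyp (p : ℕ) (F : FusionSystem S) (A : Subgroup Ω) : Prop extends Hyp0 p F A where
  odd : p ≠ 2
  core : F.core = ⊥
  notEss : ¬ F.IsEssential p A

variable {F : FusionSystem S} {A E : Subgroup Ω}

theorem Hyp0.comm_mem (h : Hyp0 p F A) {a b : Ω} (ha : a ∈ A) (hb : b ∈ A) : a * b = b * a := by
  haveI := h.comm
  exact congrArg Subtype.val (IsMulCommutative.is_comm.comm (⟨a, ha⟩ : A) ⟨b, hb⟩)

theorem Hyp0.normalizer_A (h : Hyp0 p F A) : S ≤ Subgroup.normalizer (A : Set Ω) := by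
  haveI := CfsgLib.CyclicMax.normal_of_index_prime h.pg h.idx
  exact (Subgroup.normal_subgroupOf_iff_le_normalizer h.le).mp this

theorem Hyp0.conj_mem_A (h : Hyp0 p F A) {s a : Ω} (hs : s ∈ S) (ha : a ∈ A) : s * a * s⁻¹ ∈ A :=
  (Subgroup.mem_normalizer_iff.mp (h.normalizer_A hs) a).mp ha

theorem Hyp0.sup_A (h : Hyp0 p F A) {y : Ω} (hy : y ∈ S) (hyA : y ∉ A) : A ⊔ Subgroup.zpowers y = S := by
  have hle : A ⊔ Subgroup.zpowers y ≤ S := sup_le h.le (Subgroup.zpowers_le.mpr hy)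
  refine le_antisymm hle ?_
  rw [← Subgroup.subgroupOf_eq_top, ← Subgroup.index_eq_one]
  have hle' : A.subgroupOf S ≤ (A ⊔ Subgroup.zpowers y).subgroupOf S := fun z hz => Subgroup.mem_sup_left (S := A) hz
  refine ((Nat.dvd_prime (Fact.out : p.Prime)).mp (h.idx ▸ Subgroup.index_dvd_of_le hle')).resolve_right fun h2 => ?_
  have hlt : A.subgroupOf S < (A ⊔ Subgroup.zpowers y).subgroupOf S := by
    refine lt_of_le_of_ne hle' fun e => hyA ?_
    have : (⟨y, hy⟩ : S) ∈ A.subgroupOf S := e ▸ Subgroup.mem_sup_right (Subgroup.mem_zpowers y)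
    exact this
  have h3 := Subgroup.index_strictAnti hlt
  rw [h2, h.idx] at h3
  omega

theorem Hyp0.exists_outside (h : Hyp0 p F A) : ∃ y ∈ S, y ∉ A := by
  by_contra hh
  push Not at hh
  have := h.idx
  rw [Subgroup.subgroupOf_eq_top.mpr hh, Subgroup.index_top] at this
  exact (Fact.out : p.Prime).one_lt.ne this

theorem Hyp0.decomp (h : Hyp0 p F A) {y : Ω} (hy : y ∈ S) (hyA : y ∉ A) {s : Ω} (hs : s ∈ S) :
    ∃ a ∈ A, ∃ i : ℤ, s = a * y ^ i := by
  obtain ⟨a, ha, _, ⟨i, rfl⟩, e⟩ := exists_mul_of_mem_sup ((Subgroup.zpowers_le.mpr hy).trans h.normalizer_A)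
    (show s ∈ A ⊔ Subgroup.zpowers y by rw [h.sup_A hy hyA]; exact hs)
  exact ⟨a, ha, i, e⟩

theorem Hyp0.pow_mem_A (h : Hyp0 p F A) {y : Ω} (hy : y ∈ S) : y ^ p ∈ A := by
  haveI := CfsgLib.CyclicMax.normal_of_index_prime h.pg h.idx
  have := (A.subgroupOf S).pow_index_mem (⟨y, hy⟩ : S)
  rw [h.idx] at this
  exact this

/-- An element of `A` commuting with an element outside `A` is central. -/
theorem Hyp0.mem_cen (h : Hyp0 p F A) {y a : Ω} (hy : y ∈ S) (hyA : y ∉ A) (ha : a ∈ A) (hc : a * y = y * a) :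
    a ∈ cen S := by
  refine ⟨h.le ha, Subgroup.mem_centralizer_iff.mpr fun s hs => ?_⟩
  have hle : S ≤ Subgroup.centralizer {a} := by
    conv_lhs => rw [← h.sup_A hy hyA]
    exact sup_le (fun b hb => Subgroup.mem_centralizer_singleton_iff.mpr (h.comm_mem hb ha))
      (Subgroup.zpowers_le.mpr (Subgroup.mem_centralizer_singleton_iff.mpr hc.symm))
  exact Subgroup.mem_centralizer_singleton_iff.mp (hle hs)

theorem Hyp0.cen_le_A (h : Hyp0 p F A) : cen S ≤ A := by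
  intro z hz
  by_contra hzA
  refine h.nonab ⟨⟨fun a b => Subtype.ext ?_⟩⟩
  obtain ⟨a', ha', i, ea⟩ := h.decomp hz.1 hzA a.2
  obtain ⟨b', hb', j, eb⟩ := h.decomp hz.1 hzA b.2
  have hzc : ∀ s ∈ S, ∀ i : ℤ, s * z ^ i = z ^ i * s := fun s hs i =>
    cen_comm ((cen S).zpow_mem hz i) hs
  show (a : Ω) * b = b * a
  rw [ea, eb]
  calc a' * z ^ i * (b' * z ^ j) = a' * (z ^ i * b') * z ^ j := by group
    _ = a' * b' * (z ^ i * z ^ j) := by rw [← hzc b' (h.le hb')]; group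
    _ = b' * a' * (z ^ j * z ^ i) := by rw [h.comm_mem ha' hb', ← zpow_add, ← zpow_add, add_comm]
    _ = b' * (a' * z ^ j) * z ^ i := by group
    _ = b' * z ^ j * (a' * z ^ i) := by rw [hzc a' (h.le ha')]; group

theorem Hyp0.cen_ne_bot (h : Hyp0 p F A) : cen S ≠ ⊥ := by
  intro e
  haveI : Nontrivial S := by
    by_contra hh
    rw [not_nontrivial_iff_subsingleton] at hh
    exact h.nonab ⟨⟨fun a b => Subsingleton.elim _ _⟩⟩
  haveI := h.pg.center_nontrivial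
  obtain ⟨z, hz⟩ := exists_ne (1 : Subgroup.center S)
  have : ((z : S) : Ω) ∈ cen S := SmallCentre.mem_cen.mpr ⟨(z : S).2, z.2⟩
  rw [e, Subgroup.mem_bot] at this
  exact hz (Subtype.ext (Subtype.ext this))

theorem Hyp0.cen_le_ess (h : Hyp0 p F A) (hE : F.IsEssential p E) : cen S ≤ E := by
  refine le_trans ?_ hE.1.centralizerIn_le_self
  intro z hz
  exact ⟨hz.1, Subgroup.mem_centralizer_iff.mpr fun e he => Subgroup.mem_centralizer_iff.mp hz.2 e (hE.1.1 he)⟩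

theorem Hyp0.exists_not_mem_A (h : Hyp0 p F A) (hE : F.IsEssential p E) (hEA : E ≠ A) : ∃ y ∈ E, y ∉ A := by
  by_contra hh
  push Not at hh
  refine hEA ?_
  have : A ≤ E := le_trans (fun a ha => Subgroup.mem_inf.mpr ⟨h.le ha, Subgroup.mem_centralizer_iff.mpr fun e he => h.comm_mem (hh e he) ha⟩)
    hE.1.centralizerIn_le_self
  exact le_antisymm hh this

/-- `E` is generated by the centre and one element outside `A`. -/
def TypeH (S A E : Subgroup Ω) : Prop := ∃ y ∈ S, y ∉ A ∧ E = cen S ⊔ Subgroup.zpowers y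

theorem Hyp0.typeH_or (h : Hyp0 p F A) (hE : F.IsEssential p E) (hEA : E ≠ A) :
    TypeH S A E ∨ (∀ z ∈ E, (∀ e ∈ E, e * z = z * e) → z ∈ cen S) ∧ ¬ IsMulCommutative E := by
  have hES := hE.1.1
  by_cases hy : ∃ y ∈ E, y ∉ A ∧ ∀ e ∈ E, e * y = y * e
  · obtain ⟨y, hyE, hyA, hyc⟩ := hy
    refine Or.inl ⟨y, hES hyE, hyA, le_antisymm (fun e he => ?_) (sup_le (h.cen_le_ess hE) (Subgroup.zpowers_le.mpr hyE))⟩
    obtain ⟨a, ha, i, rfl⟩ := h.decomp (hES hyE) hyA (hES he)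
    have haE : a ∈ E := (E.mul_mem_cancel_right (E.zpow_mem hyE i)).mp he
    exact Subgroup.mul_mem_sup (h.mem_cen (hES hyE) hyA ha (hyc a haE)) ⟨i, rfl⟩
  · push Not at hy
    obtain ⟨x, hxE, hxA⟩ := h.exists_not_mem_A hE hEA
    refine Or.inr ⟨fun z hz hzc => ?_, fun hc => ?_⟩
    · by_cases hzA : z ∈ A
      · exact h.mem_cen (hES hxE) hxA hzA (hzc x hxE).symm
      · obtain ⟨e, he, hne⟩ := hy z hz hzA
        exact absurd (hzc e he) hne
    · obtain ⟨e, he, hne⟩ := hy x hxE hxA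
      haveI := hc
      exact hne (congrArg Subtype.val (IsMulCommutative.is_comm.comm (⟨e, he⟩ : E) ⟨x, hxE⟩))

theorem apply_mem_cen' (α : MulAut S) {y : S} (hy : (y : Ω) ∈ cen S) : ((α y : S) : Ω) ∈ cen S :=
  SmallCentre.apply_mem_cen α hy

theorem Hyp.exists_typeH (h : Hyp p F A) : ∃ E, F.IsEssential p E ∧ TypeH S A E := by
  by_contra hh
  push Not at hh
  refine h.cen_ne_bot (h.sat.eq_bot_of_invariant h.pg h.core inf_le_left (fun α _ y hy => apply_mem_cen' α hy)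
    fun E hE => ⟨h.cen_le_ess hE, fun α _ y hy => ?_⟩)
  rcases h.typeH_or hE (fun e => h.notEss (e ▸ hE)) with hH | ⟨hZ, -⟩
  · exact absurd hH (hh E hE)
  refine hZ _ (α y).2 fun e he => ?_
  have hc : α⁻¹ ⟨e, he⟩ * y = y * α⁻¹ ⟨e, he⟩ := Subtype.ext (cen_comm hy (hE.1.1 (α⁻¹ ⟨e, he⟩).2))
  have := congrArg (fun w => ((α w : E) : Ω)) hc
  simpa using this

/-- Commutation with an element outside `A`, as a homomorphism on `A`. -/
def delta (h : Hyp0 p F A) {y : Ω} (hy : y ∈ S) : A →* A where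
  toFun g := ⟨⁅(g : Ω), y⁆, by
    rw [commutatorElement_def, show (g : Ω) * y * (g : Ω)⁻¹ * y⁻¹ = g * (y * (g : Ω)⁻¹ * y⁻¹) by group]
    exact A.mul_mem g.2 (h.conj_mem_A hy (A.inv_mem g.2))⟩
  map_one' := Subtype.ext (by simp)
  map_mul' g g' := Subtype.ext (by
    push_cast
    have hm : ⁅(g' : Ω), y⁆ ∈ A := by
      rw [commutatorElement_def, show (g' : Ω) * y * (g' : Ω)⁻¹ * y⁻¹ = g' * (y * (g' : Ω)⁻¹ * y⁻¹) by group]
      exact A.mul_mem g'.2 (h.conj_mem_A hy (A.inv_mem g'.2))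
    have hm' : ⁅(g : Ω), y⁆ ∈ A := by
      rw [commutatorElement_def, show (g : Ω) * y * (g : Ω)⁻¹ * y⁻¹ = g * (y * (g : Ω)⁻¹ * y⁻¹) by group]
      exact A.mul_mem g.2 (h.conj_mem_A hy (A.inv_mem g.2))
    rw [show ⁅(g : Ω) * g', y⁆ = g * ⁅(g' : Ω), y⁆ * (g : Ω)⁻¹ * ⁅(g : Ω), y⁆ by simp only [commutatorElement_def]; group,
      h.comm_mem g.2 hm, mul_inv_cancel_right, h.comm_mem hm hm'])

theorem coe_delta (h : Hyp0 p F A) {y : Ω} (hy : y ∈ S) (g : A) : ((delta h hy g : A) : Ω) = ⁅(g : Ω), y⁆ := rfl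

theorem Hyp0.commutator_eq (h : Hyp0 p F A) {y : Ω} (hy : y ∈ S) (hyA : y ∉ A) :
    ⁅S, S⁆ = (delta h hy).range.map A.subtype := by
  refine le_antisymm ?_ ?_
  swap
  · rintro _ ⟨_, ⟨g, rfl⟩, rfl⟩
    exact Subgroup.commutator_mem_commutator (h.le g.2) hy
  set D := (delta h hy).range.map A.subtype with hD
  have hDA : D ≤ A := Subgroup.map_subtype_le _
  have hnorm : ∀ s ∈ S, ∀ d ∈ D, s * d * s⁻¹ ∈ D := by
    intro s hs d hd
    obtain ⟨a, ha, i, rfl⟩ := h.decomp hy hyA hs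
    obtain ⟨_, ⟨g, rfl⟩, rfl⟩ := hd
    have hyi : y ^ i ∈ S := S.zpow_mem hy i
    have e1 : y ^ i * ⁅(g : Ω), y⁆ * (y ^ i)⁻¹ = ⁅y ^ i * (g : Ω) * (y ^ i)⁻¹, y⁆ := by
      simp only [commutatorElement_def]; group
    have hd' : y ^ i * ⁅(g : Ω), y⁆ * (y ^ i)⁻¹ ∈ D :=
      ⟨_, ⟨⟨_, h.conj_mem_A hyi g.2⟩, rfl⟩, e1.symm⟩
    have e2 : a * y ^ i * ⁅(g : Ω), y⁆ * (a * y ^ i)⁻¹ = y ^ i * ⁅(g : Ω), y⁆ * (y ^ i)⁻¹ := by
      rw [show a * y ^ i * ⁅(g : Ω), y⁆ * (a * y ^ i)⁻¹ = a * (y ^ i * ⁅(g : Ω), y⁆ * (y ^ i)⁻¹) * a⁻¹ by group,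
        h.comm_mem ha (hDA hd'), mul_inv_cancel_right]
    show a * y ^ i * ⁅(g : Ω), y⁆ * (a * y ^ i)⁻¹ ∈ D
    rw [e2]; exact hd'
  have hgy : ∀ g ∈ A, ⁅g, y⁆ ∈ D := fun g hg => ⟨_, ⟨⟨g, hg⟩, rfl⟩, rfl⟩
  have right : ∀ a ∈ S, ⁅a, y⁆ ∈ D → (∀ g ∈ A, ⁅a, g⁆ ∈ D) → ∀ b ∈ S, ⁅a, b⁆ ∈ D := by
    intro a ha hay haA
    let B : Subgroup Ω :=
      { carrier := {b | b ∈ S ∧ ⁅a, b⁆ ∈ D}
        one_mem' := ⟨S.one_mem, by simp⟩
        mul_mem' := fun {u v} hu hv => ⟨S.mul_mem hu.1 hv.1, by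
          rw [show ⁅a, u * v⁆ = ⁅a, u⁆ * (u * ⁅a, v⁆ * u⁻¹) by simp only [commutatorElement_def]; group]
          exact D.mul_mem hu.2 (hnorm u hu.1 _ hv.2)⟩
        inv_mem' := fun {u} hu => ⟨S.inv_mem hu.1, by
          rw [show ⁅a, u⁻¹⁆ = u⁻¹ * ⁅a, u⁆⁻¹ * u⁻¹⁻¹ by simp only [commutatorElement_def]; group]
          exact hnorm _ (S.inv_mem hu.1) _ (D.inv_mem hu.2)⟩ }
    have : S ≤ B := by
      conv_lhs => rw [← h.sup_A hy hyA]
      exact sup_le (fun g hg => ⟨h.le hg, haA g hg⟩) (Subgroup.zpowers_le.mpr ⟨hy, hay⟩)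
    exact fun b hb => (this hb).2
  have hyb : ∀ b ∈ S, ⁅y, b⁆ ∈ D := right y hy (by simp) fun g hg => by
    rw [← commutatorElement_inv]; exact D.inv_mem (hgy g hg)
  rw [Subgroup.commutator_le]
  intro a ha
  refine right a ha ?_ fun g hg => ?_
  · rw [← commutatorElement_inv]; exact D.inv_mem (hyb a ha)
  · rw [← commutatorElement_inv]
    refine D.inv_mem (right g (h.le hg) (hgy g hg) (fun g' hg' => ?_) a ha)
    rw [commutatorElement_eq_one_iff_mul_comm.mpr (h.comm_mem hg hg')]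
    exact D.one_mem

theorem Hyp0.commutator_le_A (h : Hyp0 p F A) : ⁅S, S⁆ ≤ A := by
  obtain ⟨y, hy, hyA⟩ := h.exists_outside
  rw [h.commutator_eq hy hyA]
  exact Subgroup.map_subtype_le _

/-- The data of an essential subgroup generated by the centre and one element. -/
theorem Hyp0.exists_tv (h : Hyp0 p F A) (hE : F.IsEssential p E) (hH : TypeH S A E) :
    ∃ (c : MulAut E) (k : E), autInducedBy S E = Subgroup.zpowers c ∧
      cen S ⊓ ⁅S, S⁆ = Subgroup.zpowers (k : Ω) ∧ orderOf (k : Ω) = p ∧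
      TV p (F.autGroup E) c ((cen S).subgroupOf E) k := by
  obtain ⟨y, hy, hyA, hEeq⟩ := hH
  have hES := hE.1.1
  haveI : Finite E := finite_of_le hES
  haveI hfin := finite_autGroup (F := F) hES
  have hpp : p.Prime := Fact.out
  have hyE : y ∈ E := hEeq ▸ Subgroup.mem_sup_right (Subgroup.mem_zpowers y)
  have hZE := h.cen_le_ess hE
  have hzc : ∀ z ∈ cen S, z * y = y * z := fun z hz => (cen_comm hz hy).symm
  have hdec : ∀ e ∈ E, ∃ z ∈ cen S, ∃ i : ℤ, e = z * y ^ i := fun e he => by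
    obtain ⟨z, hz, _, ⟨i, rfl⟩, e1⟩ := exists_mul_of_mem_sup (H := cen S) (K := Subgroup.zpowers y)
      (fun x hx => Subgroup.mem_normalizer_iff.mpr fun w => by
        have hxS : x ∈ S := Subgroup.zpowers_le.mpr hy hx
        constructor
        · intro hw; rw [cen_comm hw hxS, mul_inv_cancel_right]; exact hw
        · intro hw
          have h1 := cen_comm hw (S.inv_mem hxS)
          have h2 : w = x⁻¹ * (x * w * x⁻¹) * x := by group
          rw [h2, h1, inv_mul_cancel_right]; exact hw)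
      (hEeq ▸ he)
    exact ⟨z, hz, i, e1⟩
  have hab : ∀ a b : E, a * b = b * a := by
    intro a b
    obtain ⟨z, hz, i, ea⟩ := hdec a a.2
    obtain ⟨w, hw, j, eb⟩ := hdec b b.2
    have c1 : Commute z w := cen_comm hw hz.1
    have c2 : Commute z (y ^ j) := (show Commute z y from hzc z hz).zpow_right j
    have c3 : Commute (y ^ i) w := ((show Commute w y from hzc w hw).zpow_right i).symm
    refine Subtype.ext ?_
    show (a : Ω) * b = b * a
    rw [ea, eb]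
    exact Commute.mul_left (c1.mul_right c2) (c3.mul_right ((Commute.refl y).zpow_zpow i j))
  have hyp : y ^ p ∈ cen S := h.mem_cen hy hyA (h.pow_mem_A hy) ((Commute.pow_self y p).eq)
  have hyc : y ∉ cen S := fun hh => hyA (h.cen_le_A hh)
  haveI hn : ((cen S).subgroupOf E).Normal :=
    ⟨fun n hn g => by rw [hab g n, mul_inv_cancel_right]; exact hn⟩
  have hidx : ((cen S).subgroupOf E).index = p := by
    set q : E ⧸ (cen S).subgroupOf E := QuotientGroup.mk ⟨y, hyE⟩ with hq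
    rw [Subgroup.index_eq_card, ← orderOf_eq_card_of_forall_mem_zpowers (g := q) ?_]
    · refine orderOf_eq_prime ?_ fun e => hyc (Subgroup.mem_subgroupOf.mp ((QuotientGroup.eq_one_iff (⟨y, hyE⟩ : E)).mp e))
      rw [hq, ← QuotientGroup.mk_pow, QuotientGroup.eq_one_iff]
      exact hyp
    · intro w
      obtain ⟨⟨e, he⟩, rfl⟩ := QuotientGroup.mk_surjective w
      obtain ⟨z, hz, i, rfl⟩ := hdec e he
      refine ⟨i, ?_⟩
      show q ^ i = _
      rw [hq, ← QuotientGroup.mk_zpow, QuotientGroup.eq, Subgroup.mem_subgroupOf]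
      push_cast
      rwa [← mul_assoc, (show (y ^ i)⁻¹ * z = z * (y ^ i)⁻¹ from cen_comm hz (S.inv_mem (S.zpow_mem hy i))),
        mul_assoc, inv_mul_cancel, mul_one]
  set R := autInducedBy S E with hR
  have hRstab : R ≤ stab ((cen S).subgroupOf E) ((cen S).subgroupOf E) le_rfl := by
    intro r hr
    obtain ⟨g, hg, hgN, hre⟩ := mem_autInducedBy_iff.mp hr
    have hfix : ∀ z ∈ (cen S).subgroupOf E, r z = z := fun z hz =>
      Subtype.ext (by rw [hre, cen_comm (Subgroup.mem_subgroupOf.mp hz) hg, mul_inv_cancel_right])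
    refine ⟨hfix, fun z hz => by rw [hfix z hz]; simp, fun e => ?_⟩
    rw [Subgroup.mem_subgroupOf]
    push_cast
    rw [hre]
    have hm : (e : Ω)⁻¹ * (g * e * g⁻¹) ∈ A := by
      rw [show (e : Ω)⁻¹ * (g * e * g⁻¹) = ⁅(e : Ω)⁻¹, g⁆ by rw [commutatorElement_def]; group]
      exact h.commutator_le_A (Subgroup.commutator_mem_commutator (S.inv_mem (hES e.2)) hg)
    exact h.mem_cen hy hyA hm (congrArg Subtype.val (hab ⟨_, E.mul_mem (E.inv_mem e.2)
      ((Subgroup.mem_normalizer_iff.mp hgN e).mp e.2)⟩ ⟨y, hyE⟩))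
  have hRA : R ≤ F.autGroup E := autInducedBy_le_autGroup hES
  have hRp : IsPGroup p R := isPGroup_autInducedBy h.pg
  have hlt := hE.lt h.pg h.sat
  have hR1 : R ≠ ⊥ := by
    intro e
    obtain ⟨g, hgN, hgE⟩ := SetLike.exists_of_lt (lt_normalizerIn h.pg hlt)
    refine hgE (hE.1.centralizerIn_le_self ⟨hgN.1, Subgroup.mem_centralizer_iff.mpr fun w hw => ?_⟩)
    let α : MulAut E := E.normalizerMonoidHom ⟨g, hgN.2⟩
    have hα : α ∈ R := mem_autInducedBy_iff.mpr ⟨g, hgN.1, hgN.2, fun _ => rfl⟩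
    rw [e, Subgroup.mem_bot] at hα
    have := congrArg (fun a : MulAut E => ((a ⟨w, hw⟩ : E) : Ω)) hα
    exact (mul_inv_eq_iff_eq_mul.mp (show g * w * g⁻¹ = w from this)).symm
  obtain ⟨-, T, hT⟩ := h.sat.isFullyAutomized_of_isFullyNormalized h.pg hE.2.1
  have hmax : ∀ U : Subgroup (MulAut E), U ≤ F.autGroup E → IsPGroup p U →
      ∃ ψ ∈ F.autGroup E, ∀ u ∈ U, ψ * u * ψ⁻¹ ∈ R := by
    intro U hU hUp
    obtain ⟨a, ha⟩ := exists_conj_mem_sylow T
      (X := U.subgroupOf (F.autGroup E)) (hUp.comap_of_injective (F.autGroup E).subtype Subtype.coe_injective)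
    refine ⟨a, a.2, fun u hu => ?_⟩
    exact hT.le (ha ⟨u, hU hu⟩ hu)
  have hnot : ∃ φ ∈ F.autGroup E, ∃ r ∈ R, φ * r * φ⁻¹ ∉ R := by
    by_contra hh
    push Not at hh
    set P := R.subgroupOf (F.autGroup E) with hP
    haveI hn' : P.Normal := ⟨fun a ha g => hh g g.2 a ha⟩
    have hPp : IsPGroup p P := hRp.comap_of_injective (F.autGroup E).subtype Subtype.coe_injective
    refine hR1 ((Subgroup.eq_bot_iff_forall _).mpr fun r hr => ?_)
    have h1 : r ∈ Inn E := by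
      rw [← (hE.isRadical h.pg h.sat).2]
      exact ⟨⟨r, hRA hr⟩, le_sSup (show P ∈ {Q : Subgroup (F.autGroup E) | Q.Normal ∧ IsPGroup p Q} from ⟨hn', hPp⟩)
        hr, rfl⟩
    obtain ⟨g, rfl⟩ := h1
    exact MulEquiv.ext fun w => by simp [MulAut.conj_apply, hab g w]
  obtain ⟨c, k, hRc, htv⟩ := exists_tv_of_axis (h.pg.to_le hES) hab hidx hRA hRp hRstab hR1 hmax hnot
  have hko : orderOf (k : Ω) = p := by rw [Subgroup.orderOf_coe]; exact htv.korder
  refine ⟨c, k, hRc, le_antisymm ?_ ?_, hko, htv⟩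
  · intro z hz
    have hz2 := hz.2
    rw [h.commutator_eq hy hyA] at hz2
    obtain ⟨_, ⟨g, rfl⟩, hgz⟩ := hz2
    have hgz' : ⁅(g : Ω), y⁆ = z := hgz
    have hconj : ∀ g' : Ω, g' = (g : Ω) ∨ g' = (g : Ω)⁻¹ → g' * y * g'⁻¹ ∈ E := by
      rintro g' (rfl | rfl)
      · rw [show (g : Ω) * y * (g : Ω)⁻¹ = ⁅(g : Ω), y⁆ * y by rw [commutatorElement_def]; group, hgz']
        exact E.mul_mem (hZE hz.1) hyE
      · have : (g : Ω)⁻¹ * y * (g : Ω)⁻¹⁻¹ = (g : Ω)⁻¹ * (⁅(g : Ω), y⁆)⁻¹ * g * y := by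
          rw [commutatorElement_def]; group
        rw [this, hgz', cen_comm ((cen S).inv_mem hz.1) (S.inv_mem (h.le g.2)), inv_mul_cancel_right]
        exact E.mul_mem (E.inv_mem (hZE hz.1)) hyE
    have hgS : (g : Ω) ∈ S := h.le g.2
    have hgN : (g : Ω) ∈ Subgroup.normalizer (E : Set Ω) := by
      have key : ∀ g' : Ω, g' ∈ S → g' * y * g'⁻¹ ∈ E → ∀ e ∈ E, g' * e * g'⁻¹ ∈ E := by
        intro g' hg' hyy e he
        obtain ⟨w, hw, i, rfl⟩ := hdec e he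
        rw [show g' * (w * y ^ i) * g'⁻¹ = (g' * w * g'⁻¹) * (g' * y ^ i * g'⁻¹) by group, cen_comm hw hg',
          mul_inv_cancel_right, ← conj_zpow]
        exact E.mul_mem (hZE hw) (E.zpow_mem hyy i)
      refine Subgroup.mem_normalizer_iff.mpr fun e => ⟨key g hgS (hconj g (Or.inl rfl)) e, fun he => ?_⟩
      have := key _ (S.inv_mem hgS) (hconj _ (Or.inr rfl)) _ he
      simpa [mul_assoc] using this
    let α : MulAut E := E.normalizerMonoidHom ⟨g, hgN⟩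
    have hα : α ∈ R := mem_autInducedBy_iff.mpr ⟨g, hgS, hgN, fun _ => rfl⟩
    rw [hRc] at hα
    have hst : Subgroup.zpowers c ≤ stab (Subgroup.zpowers k) (Subgroup.zpowers k) le_rfl := by
      rw [Subgroup.zpowers_le]
      exact ⟨fun w hw => (htv.fix w).mpr (Subgroup.zpowers_le.mpr htv.kZ hw), fun w _ => htv.range w, htv.range⟩
    obtain ⟨i, hi⟩ := (hst hα).2.2 (⟨y, hyE⟩ : E)
    refine ⟨i, ?_⟩
    have hi' := congrArg Subtype.val hi
    simp only [SubgroupClass.coe_zpow, Subgroup.coe_mul, InvMemClass.coe_inv] at hi'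
    show (k : Ω) ^ i = z
    rw [hi', ← hgz']
    show y⁻¹ * ((g : Ω) * y * (g : Ω)⁻¹) = _
    rw [show (g : Ω) * y * (g : Ω)⁻¹ = ⁅(g : Ω), y⁆ * y by rw [commutatorElement_def]; group, hgz',
      ← cen_comm hz.1 hy, inv_mul_cancel_left]
  · refine Subgroup.zpowers_le.mpr ⟨htv.kZ, ?_⟩
    have hcR : c ∈ R := hRc ▸ Subgroup.mem_zpowers c
    obtain ⟨g, hg, hgN, hge⟩ := mem_autInducedBy_iff.mp hcR
    obtain ⟨φ, hφ, hZ⟩ := htv.exists_moving
    have hφk : φ k ∉ (cen S).subgroupOf E := htv.apply_k_not_mem hφ hZ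
    obtain ⟨i, hi⟩ := htv.range (φ k)
    have hne : ((φ k)⁻¹ * c (φ k) : E) ≠ 1 := fun e => hφk ((htv.fix _).mp (inv_mul_eq_one.mp e).symm)
    have hmem : (((φ k)⁻¹ * c (φ k) : E) : Ω) ∈ ⁅S, S⁆ := by
      push_cast
      rw [hge, show ((φ k : E) : Ω)⁻¹ * (g * (φ k : E) * g⁻¹) = ⁅((φ k : E) : Ω)⁻¹, g⁆ by rw [commutatorElement_def]; group]
      exact Subgroup.commutator_mem_commutator (S.inv_mem (hES (φ k).2)) hg
    have hnd : ¬ (p : ℤ) ∣ i := by
      intro hd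
      refine hne ?_
      rw [← show k ^ i = (φ k)⁻¹ * c (φ k) from hi]
      exact orderOf_dvd_iff_zpow_eq_one.mp (by rw [htv.korder]; exact hd)
    obtain ⟨s, t, hst⟩ := ((Nat.prime_iff_prime_int.mp hpp).coprime_iff_not_dvd.mpr hnd).symm
    have e1 : (k : Ω) = ((((φ k)⁻¹ * c (φ k) : E)) : Ω) ^ s := by
      rw [← show k ^ i = (φ k)⁻¹ * c (φ k) from hi]
      have hk1 : (k : Ω) ^ (p : ℤ) = 1 := by rw [zpow_natCast, ← hko, pow_orderOf_eq_one]
      push_cast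
      calc (k : Ω) = (k : Ω) ^ (s * i + t * p) := by rw [hst, zpow_one]
        _ = _ := by rw [zpow_add, mul_comm t, zpow_mul (k : Ω) (p : ℤ), hk1, one_zpow, mul_one, mul_comm, zpow_mul]
    rw [e1]
    exact Subgroup.zpow_mem _ hmem s

end Cfsg.AbelianIndex
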