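import Cfsg.Agent.Lib.Fusion.AbelianIndex.Basic
import Mathlib.GroupTheory.Nilpotent

/-!
A saturated fusion system with trivial core on a `p`-group with an abelian, inessential subgroup of
index `p`: the centre has order `p` and the group has maximal class.
-/

set_option autoImplicit false
set_option linter.unusedSectionVars false

open scoped commutatorElement

namespace Cfsg.AbelianIndex

open Cfsg FusionSystem SmallCentre

variable {Ω : Type*} [Group Ω] {S : Subgroup Ω} [Finite S] {p : ℕ} [Fact p.Prime] {F : FusionSystem S}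
  {A E : Subgroup Ω}

/-- A map is compatible with an automorphism of `S` on the centre, if its source is nonabelian. -/
def CenExt (F : FusionSystem S) (P : Subgroup Ω) (φ : P →* Ω) : Prop :=
  ¬ IsMulCommutative P → ∃ β ∈ F.autGroup S, ∀ z : S, (z : Ω) ∈ cen S →
    (((z : Ω) ∈ P ↔ ((β z : S) : Ω) ∈ φ.range) ∧ ∀ h : (z : Ω) ∈ P, φ ⟨z, h⟩ = β z)

theorem Hyp0.cenExt (h : Hyp0 p F A) {P : Subgroup Ω} {φ : P →* Ω} (hφ : φ ∈ F.Hom P) : CenExt F P φ := by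
  let E' : FusionSystem S :=
    { Hom := fun P => {φ | φ ∈ F.Hom P ∧ CenExt F P φ}
      le_of_mem := fun h => F.le_of_mem h.1
      injective_of_mem := fun h => F.injective_of_mem h.1
      conj_mem := fun {P g} hP hg => ⟨F.conj_mem hP hg, fun _ => ⟨1, one_mem _, fun z hz => by
        have e : ∀ h : (z : Ω) ∈ P, conjHom P g ⟨z, h⟩ = z := fun h => by
          rw [conjHom_apply, cen_comm hz hg, mul_inv_cancel_right]
        refine ⟨⟨fun h => ⟨⟨z, h⟩, e h⟩, ?_⟩, e⟩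
        rintro ⟨x, hx⟩
        have hx' : g * (x : Ω) * g⁻¹ = z := hx
        have hz' : g * (z : Ω) * g⁻¹ = z := by rw [cen_comm hz hg, mul_inv_cancel_right]
        have : (x : Ω) = z := mul_left_cancel (mul_right_cancel (hx'.trans hz'.symm))
        exact this ▸ x.2⟩⟩
      comp_mem := fun {P Q φ ψ} hφ hψ hmap => ⟨F.comp_mem hφ.1 hψ.1 hmap, fun hP => by
        obtain ⟨β, hβ, hβe⟩ := hφ.2 hP
        have hQ : ¬ IsMulCommutative Q := fun hc => hP ⟨⟨fun a b => by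
          haveI := hc
          refine F.injective_of_mem hφ.1 ?_
          rw [map_mul, map_mul]
          exact congrArg Subtype.val (IsMulCommutative.is_comm.comm (⟨φ a, hmap a⟩ : Q) ⟨φ b, hmap b⟩)⟩⟩
        obtain ⟨γ, hγ, hγe⟩ := hψ.2 hQ
        refine ⟨γ * β, mul_mem hγ hβ, fun z hz => ?_⟩
        have hbz : ((β z : S) : Ω) ∈ cen S := apply_mem_cen' β hz
        obtain ⟨h1, h2⟩ := hβe z hz
        obtain ⟨g1, g2⟩ := hγe (β z) hbz
        have hval : ∀ hm : (z : Ω) ∈ P,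
            ψ.comp (φ.codRestrict Q hmap) ⟨z, hm⟩ = ((γ * β) z : S) := fun hm => by
          have hQm : ((β z : S) : Ω) ∈ Q := h2 hm ▸ hmap ⟨z, hm⟩
          rw [MulAut.mul_apply, ← g2 hQm]
          show ψ ⟨φ ⟨z, hm⟩, _⟩ = _
          congr 1
          exact Subtype.ext (h2 hm)
        refine ⟨⟨fun hm => ⟨⟨z, hm⟩, hval hm⟩, ?_⟩, hval⟩
        rintro ⟨x, hx⟩
        have hx' : ψ ⟨φ x, hmap x⟩ = (γ (β z) : S) := hx
        have hQm : ((β z : S) : Ω) ∈ Q := g1.mpr ⟨_, hx'⟩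
        have : φ x = β z := congrArg Subtype.val (F.injective_of_mem hψ.1 (hx'.trans (g2 hQm).symm))
        exact h1.mpr ⟨x, this⟩⟩
      inv_mem := fun {P φ} hφ => by
        obtain ⟨ψ, hψ, hl⟩ := F.inv_mem hφ.1
        refine ⟨ψ, ⟨hψ, fun hR => ?_⟩, hl⟩
        have hP : ¬ IsMulCommutative P := fun hc => hR ⟨⟨by
          rintro ⟨_, a, rfl⟩ ⟨_, b, rfl⟩
          haveI := hc
          refine Subtype.ext ?_
          show φ a * φ b = φ b * φ a
          rw [← map_mul, ← map_mul, IsMulCommutative.is_comm.comm a b]⟩⟩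
        obtain ⟨β, hβ, hβe⟩ := hφ.2 hP
        refine ⟨β⁻¹, inv_mem hβ, fun z hz => ?_⟩
        have hbz : ((β⁻¹ z : S) : Ω) ∈ cen S := apply_mem_cen' β⁻¹ hz
        obtain ⟨h1, h2⟩ := hβe (β⁻¹ z) hbz
        rw [MulAut.apply_inv_self] at h1 h2
        have hval : ∀ hm : (z : Ω) ∈ φ.range, ψ ⟨z, hm⟩ = (β⁻¹ z : S) := fun hm => by
          have hP' := h1.mpr hm
          have e := h2 hP'
          rw [show (⟨(z : Ω), hm⟩ : φ.range) = ⟨φ ⟨_, hP'⟩, _, rfl⟩ from Subtype.ext e.symm, hl]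
        refine ⟨⟨fun hm => ⟨_, hval hm⟩, ?_⟩, hval⟩
        rintro ⟨⟨_, x, rfl⟩, hx⟩
        rw [hl] at hx
        exact h1.mp (hx ▸ x.2) }
  suffices key : F ≤ E' from (key P hφ).2
  refine h.sat.le_of_autGroup_le' h.pg E' fun P hP hbig α hα => ?_
  have hPS : P ≤ S := by
    rcases hP with rfl | hP
    exacts [le_rfl, hP.1.1]
  refine (E'.mem_autGroup_iff hPS).mpr ⟨(F.mem_autGroup_iff hPS).mp hα, fun hna => ?_⟩
  rcases hP with rfl | hP
  · refine ⟨α, hα, fun z hz => ⟨⟨fun _ => ⟨z, rfl⟩, fun _ => z.2⟩, fun hm => rfl⟩⟩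
  rcases h.typeH_or hP (fun e => hna (e ▸ h.comm)) with hH | ⟨hZ, -⟩
  · obtain ⟨c, k, -, -, -, htv⟩ := h.exists_tv hP hH
    exact absurd ⟨⟨htv.comm⟩⟩ hna
  have hZP := h.cen_le_ess hP
  haveI : Finite P := finite_of_le hPS
  haveI := finite_autGroup (F := F) hPS
  have hcpres : ∀ (θ : MulAut P) (z : P), (z : Ω) ∈ cen S → ((θ z : P) : Ω) ∈ cen S := by
    intro θ z hz
    refine hZ _ (θ z).2 fun e he => ?_
    have hc : θ⁻¹ ⟨e, he⟩ * z = z * θ⁻¹ ⟨e, he⟩ := Subtype.ext (cen_comm hz (hPS (θ⁻¹ ⟨e, he⟩).2))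
    have := congrArg (fun w => ((θ w : P) : Ω)) hc
    simpa using this
  let N : Subgroup (F.autGroup P) :=
    { carrier := {θ | ∀ z : P, (z : Ω) ∈ cen S → (θ : MulAut P) z = z}
      one_mem' := fun z _ => rfl
      mul_mem' := fun {a b} ha hb z hz => by
        rw [Subgroup.coe_mul, MulAut.mul_apply, hb z hz, ha z hz]
      inv_mem' := fun {a} ha z hz => by
        have h2 := congrArg (fun w => (a : MulAut P)⁻¹ w) (ha z hz)
        simp only [MulAut.inv_apply_self] at h2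
        rw [InvMemClass.coe_inv]
        exact h2.symm }
  haveI hNn : N.Normal := ⟨fun n hn g z hz => by
    push_cast
    show (g : MulAut P) ((n : MulAut P) ((g : MulAut P)⁻¹ z)) = z
    rw [hn _ (hcpres _ z hz), MulAut.apply_inv_self]⟩
  obtain ⟨-, T, hT⟩ := h.sat.isFullyAutomized_of_isFullyNormalized h.pg hP.2.1
  have hTN : (T : Subgroup (F.autGroup P)) ≤ N := by
    rw [hT]
    intro θ hθ z hz
    obtain ⟨g, hg, -, hge⟩ := mem_autInducedBy_iff.mp (Subgroup.mem_subgroupOf.mp hθ)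
    exact Subtype.ext (by rw [hge, cen_comm hz hg, mul_inv_cancel_right])
  have htop : Subgroup.normalizer ((T : Subgroup (F.autGroup P)) : Set (F.autGroup P)) ⊔ N = ⊤ :=
    Sylow.normalizer_sup_eq_top' T hTN
  have hα' : (⟨α, hα⟩ : F.autGroup P) ∈ Subgroup.normalizer ((T : Subgroup (F.autGroup P)) : Set (F.autGroup P)) ⊔ N := by
    rw [htop]; trivial
  obtain ⟨ν, hν, n, hn, e⟩ := Subgroup.mem_sup_of_normal_right.mp hα'
  -- extend the part normalising the Sylow subgroup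
  obtain ⟨φ, hφ, hr, hφe⟩ := F.exists_map_of_mem_autGroup hPS ν.2
  have hlt := hP.lt h.pg h.sat
  have hltN := lt_normalizerIn h.pg hlt
  have hext : normalizerIn S P ≤ extender S P φ := by
    intro g hg
    let cg : MulAut P := P.normalizerMonoidHom ⟨g, hg.2⟩
    have hcg : cg ∈ autInducedBy S P := mem_autInducedBy_iff.mpr ⟨g, hg.1, hg.2, fun _ => rfl⟩
    have hcgA : cg ∈ F.autGroup P := autInducedBy_le_autGroup hPS hcg
    have hcgT : (⟨cg, hcgA⟩ : F.autGroup P) ∈ (T : Subgroup (F.autGroup P)) := hT.ge hcg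
    have hc' := (Subgroup.mem_normalizer_iff.mp hν _).mp hcgT
    obtain ⟨g', hg', -, hge⟩ := mem_autInducedBy_iff.mp (Subgroup.mem_subgroupOf.mp (hT.le hc'))
    refine (mem_extender_iff (F.apply_mem hφ)).mpr ⟨hg.1, hg.2, g', hg', fun x hx => ?_⟩
    rw [hφe, hφe, ← hge]
    push_cast
    rw [MulAut.mul_apply, MulAut.mul_apply, MulAut.inv_apply_self]
    rfl
  obtain ⟨χ, hχ, hχe⟩ := (h.sat.isReceptive_of_isFullyNormalized h.pg hP.2.1).2 P φ hφ hr
  have hχ' : χ.comp (Subgroup.inclusion hext) ∈ F.Hom (normalizerIn S P) := F.restrict_mem hχ hext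
  haveI : Finite ↥(normalizerIn S P) := finite_of_le inf_le_left
  have hEN := hbig _ (FusionSystem.card_lt_of_lt hltN) hχ'
  obtain ⟨β, hβ, hβe⟩ := hEN.2 (fun hc => hna ⟨⟨fun a b => by
    haveI := hc
    exact Subtype.ext (congrArg Subtype.val
      (IsMulCommutative.is_comm.comm (⟨a, hltN.le a.2⟩ : ↥(normalizerIn S P)) ⟨b, hltN.le b.2⟩) : _)⟩⟩)
  refine ⟨β, hβ, fun z hz => ?_⟩
  have hzP : (z : Ω) ∈ P := hZP hz
  have hval : ∀ hm : (z : Ω) ∈ P, ((α ⟨z, hm⟩ : P) : Ω) = β z := by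
    intro hm
    have hαe : α = (ν : MulAut P) * (n : MulAut P) := (congrArg Subtype.val e).symm
    rw [hαe, MulAut.mul_apply, hn ⟨z, hm⟩ hz, ← (hβe z hz).2 (hltN.le hm), ← hφe]
    exact (hχe _ hm _).symm
  exact ⟨⟨fun hm => ⟨⟨z, hm⟩, hval hm⟩, fun _ => hzP⟩, hval⟩

/-- Automorphisms of `S` inverting `Z(S) ∩ [S,S]` and centralising `Z(S)/(Z(S) ∩ [S,S])`. -/
structure Good (F : FusionSystem S) (β : MulAut S) : Prop where
  mem : β ∈ F.autGroup S
  stab : ∀ z : S, (z : Ω) ∈ cen S → z⁻¹ * β z ∈ (cen S ⊓ ⁅S, S⁆).subgroupOf S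
  inv : ∀ c ∈ (cen S ⊓ ⁅S, S⁆).subgroupOf S, β c = c⁻¹

theorem mem_cen_iff {z : S} : (z : Ω) ∈ cen S ↔ z ∈ Subgroup.center S :=
  ⟨fun hz => (SmallCentre.mem_cen.mp hz).2, fun hz => SmallCentre.mem_cen.mpr ⟨z.2, hz⟩⟩

theorem Good.unique (h : Hyp p F A) {β₁ β₂ : MulAut S} (h₁ : Good F β₁) (h₂ : Good F β₂) {z : S}
    (hz : (z : Ω) ∈ cen S) : β₁ z = β₂ z := by
  set K := (cen S ⊓ ⁅S, S⁆).subgroupOf S
  have hinv : ∀ c ∈ K, β₂⁻¹ c = c⁻¹ := fun c hc => by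
    apply β₂.injective
    rw [MulAut.apply_inv_self, map_inv, h₂.inv c hc, inv_inv]
  have := h.sat.fixes_center_of_stab h.pg (γ := β₂⁻¹ * β₁) (mul_mem (inv_mem h₂.mem) h₁.mem) K
    (fun y hy => ?_) (fun c hc => ?_) (mem_cen_iff.mp hz)
  · have h3 := congrArg (fun w => β₂ w) this
    simpa using h3
  · have hy' : (y : Ω) ∈ cen S := mem_cen_iff.mpr hy
    have hd : (β₂ y)⁻¹ * β₁ y ∈ K := by
      rw [show (β₂ y)⁻¹ * β₁ y = (y⁻¹ * β₂ y)⁻¹ * (y⁻¹ * β₁ y) by group]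
      exact Subgroup.mul_mem _ (Subgroup.inv_mem _ (h₂.stab y hy')) (h₁.stab y hy')
    have e : y⁻¹ * (β₂⁻¹ * β₁) y = β₂⁻¹ ((β₂ y)⁻¹ * β₁ y) := by simp
    rw [e, hinv _ hd]
    exact Subgroup.inv_mem _ hd
  · rw [MulAut.mul_apply, h₁.inv c hc, map_inv, hinv c hc, inv_inv]

theorem Hyp.exists_good (h : Hyp p F A) (hE : F.IsEssential p E) (hH : TypeH S A E) {φ : MulAut E}
    (hφ : φ ∈ F.autGroup E) (hZ : ((cen S).subgroupOf E).map φ.toMonoidHom ≠ (cen S).subgroupOf E) :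
    ∃ β, Good F β ∧ ∀ y ∈ (cen S).subgroupOf E ⊓ ((cen S).subgroupOf E).map φ.toMonoidHom,
      β ⟨(y : Ω), hE.1.1 y.2⟩ = ⟨(y : Ω), hE.1.1 y.2⟩ := by
  obtain ⟨c, k, hR, hK, hko, htv⟩ := h.exists_tv hE hH
  have hES := hE.1.1
  haveI : Finite E := finite_of_le hES
  obtain ⟨ι, hι, hιZ, hιk, hιy⟩ := htv.exists_iota hφ hZ
  obtain ⟨ψ, hψ, hr, hψe⟩ := F.exists_map_of_mem_autGroup hES hι
  have hlt := lt_normalizerIn h.pg (hE.lt h.pg h.sat)
  have hext : normalizerIn S E ≤ extender S E ψ := by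
    intro g hg
    let cg : MulAut E := E.normalizerMonoidHom ⟨g, hg.2⟩
    have hcg : cg ∈ autInducedBy S E := mem_autInducedBy_iff.mpr ⟨g, hg.1, hg.2, fun _ => rfl⟩
    have hc' : ι * cg * ι⁻¹ ∈ autInducedBy S E := by
      rw [hR] at hcg ⊢
      obtain ⟨i, hi⟩ := hcg
      rw [← show c ^ i = cg from hi, ← conj_zpow]
      exact Subgroup.zpow_mem _ ((htv.conj_c_mem_iff hι).mpr hιZ) _
    obtain ⟨g', hg', -, hge⟩ := mem_autInducedBy_iff.mp hc'
    refine (mem_extender_iff (F.apply_mem hψ)).mpr ⟨hg.1, hg.2, g', hg', fun x hx => ?_⟩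
    rw [hψe, hψe, ← hge]
    rw [MulAut.mul_apply, MulAut.mul_apply, MulAut.inv_apply_self]
    rfl
  obtain ⟨χ, hχ, hχe⟩ := (h.sat.isReceptive_of_isFullyNormalized h.pg hE.2.1).2 E ψ hψ hr
  have hχ' : χ.comp (Subgroup.inclusion hext) ∈ F.Hom (normalizerIn S E) := F.restrict_mem hχ hext
  have hna : ¬ IsMulCommutative ↥(normalizerIn S E) := by
    intro hc
    obtain ⟨w, hwN, hwE⟩ := SetLike.exists_of_lt hlt
    refine hwE (hE.1.centralizerIn_le_self ⟨hwN.1, Subgroup.mem_centralizer_iff.mpr fun e he => ?_⟩)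
    haveI := hc
    exact congrArg Subtype.val (IsMulCommutative.is_comm.comm (⟨e, hlt.le he⟩ : ↥(normalizerIn S E)) ⟨w, hwN⟩)
  obtain ⟨β, hβ, hβe⟩ := h.cenExt hχ' hna
  have hval : ∀ z : S, (z : Ω) ∈ cen S → ∀ hm : (z : Ω) ∈ E, ((β z : S) : Ω) = (ι ⟨z, hm⟩ : E) := by
    intro z hz hm
    rw [← (hβe z hz).2 (hlt.le hm), ← hψe]
    exact hχe _ hm _
  have hZE := h.cen_le_ess hE
  refine ⟨β, ⟨hβ, fun z hz => ?_, fun d hd => ?_⟩, fun y hy => Subtype.ext ?_⟩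
  · obtain ⟨w, hw, i, hzw⟩ := htv.decomp hφ hZ (z := ⟨z, hZE hz⟩) hz
    rw [Subgroup.mem_subgroupOf, hK]
    push_cast
    have h5 : ι ⟨z, hZE hz⟩ = w * k⁻¹ ^ i := by rw [hzw, map_mul, map_zpow, hιy w hw, hιk]
    rw [hval z hz (hZE hz), h5, show (z : Ω) = ((w * k ^ i : E) : Ω) from congrArg Subtype.val hzw]
    push_cast
    rw [show ((w : Ω) * (k : Ω) ^ i)⁻¹ * ((w : Ω) * (k : Ω)⁻¹ ^ i) = (k : Ω) ^ (-i) * (k : Ω)⁻¹ ^ i by group]
    exact Subgroup.mul_mem _ (Subgroup.zpow_mem _ (Subgroup.mem_zpowers _) _)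
      (Subgroup.zpow_mem _ (Subgroup.inv_mem _ (Subgroup.mem_zpowers _)) _)
  · have hd' : (d : Ω) ∈ cen S ⊓ ⁅S, S⁆ := hd
    rw [hK] at hd'
    obtain ⟨i, hi⟩ := hd'
    have hdE : (d : Ω) ∈ E := hi ▸ E.zpow_mem k.2 i
    refine Subtype.ext ?_
    have h2 : (⟨d, hdE⟩ : E) = k ^ i := Subtype.ext (by push_cast; exact hi.symm)
    rw [hval d (Subgroup.mem_inf.mp hd).1 hdE, h2, map_zpow, hιk]
    push_cast
    rw [inv_zpow]
    exact congrArg (·⁻¹) hi
  · rw [hval _ (Subgroup.mem_subgroupOf.mp hy.1) y.2, hιy y hy]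

theorem Hyp.mem_inf_iff (h : Hyp p F A) {β : MulAut S} (hβ : Good F β) (hE : F.IsEssential p E) (hH : TypeH S A E)
    {φ : MulAut E} (hφ : φ ∈ F.autGroup E)
    (hZ : ((cen S).subgroupOf E).map φ.toMonoidHom ≠ (cen S).subgroupOf E) (y : E) :
    y ∈ (cen S).subgroupOf E ⊓ ((cen S).subgroupOf E).map φ.toMonoidHom ↔
      (y : Ω) ∈ cen S ∧ β ⟨(y : Ω), hE.1.1 y.2⟩ = ⟨(y : Ω), hE.1.1 y.2⟩ := by
  obtain ⟨β', hβ', hfix⟩ := h.exists_good hE hH hφ hZ
  obtain ⟨c, k, hR, hK, hko, htv⟩ := h.exists_tv hE hH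
  haveI : Finite E := finite_of_le hE.1.1
  constructor
  · intro hy
    exact ⟨hy.1, (hβ.unique h hβ' (show (((⟨(y : Ω), hE.1.1 y.2⟩ : S)) : Ω) ∈ cen S from hy.1)).trans (hfix y hy)⟩
  · rintro ⟨hyc, hyf⟩
    obtain ⟨w, hw, i, rfl⟩ := htv.decomp hφ hZ (z := y) hyc
    suffices hki : k ^ i = 1 by rwa [hki, mul_one]
    set kS : S := ⟨(k : Ω), hE.1.1 k.2⟩ with hkS
    have hsplit : (⟨((w * k ^ i : E) : Ω), hE.1.1 (w * k ^ i).2⟩ : S) = (⟨(w : Ω), hE.1.1 w.2⟩ : S) * kS ^ i :=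
      Subtype.ext (by push_cast; rfl)
    have hder : kS ∈ (cen S ⊓ ⁅S, S⁆).subgroupOf S := by
      show (k : Ω) ∈ cen S ⊓ ⁅S, S⁆
      rw [hK]; exact Subgroup.mem_zpowers _
    rw [hsplit, map_mul, map_zpow, hβ.inv kS hder, (hβ.unique h hβ' (show (((⟨(w : Ω), hE.1.1 w.2⟩ : S)) : Ω) ∈ cen S from hw.1)).trans (hfix w hw), inv_zpow] at hyf
    have h1 := mul_left_cancel hyf
    have hkp : k ^ p = 1 := by rw [← htv.korder, pow_orderOf_eq_one]
    have hp' : (kS ^ i) ^ p = 1 := by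
      rw [← zpow_natCast, ← zpow_mul, mul_comm, zpow_mul, zpow_natCast]
      have : kS ^ p = 1 := by
        refine Subtype.ext ?_
        show (k : Ω) ^ p = 1
        rw [← hko, pow_orderOf_eq_one]
      rw [this, one_zpow]
    have h2 := congrArg Subtype.val (eq_one_of_inv_eq h.odd hp' h1)
    push_cast at h2
    exact Subtype.ext (by push_cast; exact h2)

theorem Hyp.cen_eq (h : Hyp p F A) : cen S ≤ ⁅S, S⁆ ∧ Nat.card (cen S) = p := by
  have exmov : ∀ (E : Subgroup Ω), F.IsEssential p E → TypeH S A E → ∃ φ ∈ F.autGroup E,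
      ((cen S).subgroupOf E).map φ.toMonoidHom ≠ (cen S).subgroupOf E := fun E hE hH => by
    obtain ⟨c, k, -, -, -, htv⟩ := h.exists_tv hE hH
    haveI : Finite E := finite_of_le hE.1.1
    exact htv.exists_moving
  obtain ⟨E₀, hE₀, hH₀⟩ := h.exists_typeH
  obtain ⟨φ₀, hφ₀, hZ₀⟩ := exmov E₀ hE₀ hH₀
  obtain ⟨β, hβ, -⟩ := h.exists_good hE₀ hH₀ hφ₀ hZ₀
  let C : Subgroup Ω := (((cen S).subgroupOf S) ⊓ β.toMonoidHom.eqLocus (MonoidHom.id S)).map S.subtype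
  have hmem : ∀ {x : Ω}, x ∈ C ↔ ∃ hx : x ∈ S, x ∈ cen S ∧ β ⟨x, hx⟩ = ⟨x, hx⟩ := by
    intro x
    constructor
    · rintro ⟨y, hy, rfl⟩; exact ⟨y.2, hy.1, hy.2⟩
    · rintro ⟨hx, h1, h2⟩; exact ⟨⟨x, hx⟩, ⟨h1, h2⟩, rfl⟩
  have hKchar : ∀ γ : MulAut S, ∀ d ∈ (cen S ⊓ ⁅S, S⁆).subgroupOf S, γ d ∈ (cen S ⊓ ⁅S, S⁆).subgroupOf S := by
    intro γ d hd
    refine ⟨apply_mem_cen' γ (Subgroup.mem_inf.mp hd).1, ?_⟩
    have hd2 : (d : Ω) ∈ ⁅S, S⁆ := (Subgroup.mem_inf.mp hd).2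
    rw [← Subgroup.map_subtype_commutator] at hd2 ⊢
    obtain ⟨w, hw, e⟩ := hd2
    obtain rfl : w = d := Subtype.ext e
    exact ⟨γ w, (Subgroup.characteristic_iff_le_comap.mp inferInstance γ) hw, rfl⟩
  have hinvS : ∀ α ∈ F.autGroup S, ∀ y : S, (y : Ω) ∈ C → ((α y : S) : Ω) ∈ C := by
    intro α hα y hy
    obtain ⟨hyS, hyc, hyf⟩ := hmem.mp hy
    have hg : Good F (α⁻¹ * β * α) := by
      refine ⟨mul_mem (mul_mem (inv_mem hα) hβ.mem) hα, fun z hz => ?_, fun d hd => ?_⟩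
      · have := hKchar α⁻¹ _ (hβ.stab (α z) (apply_mem_cen' α hz))
        simpa using this
      · simp only [MulAut.mul_apply]
        rw [hβ.inv _ (hKchar α d hd), map_inv, MulAut.inv_apply_self]
    refine hmem.mpr ⟨(α y).2, apply_mem_cen' α hyc, ?_⟩
    show β (α y) = α y
    have := congrArg (fun w => α w) (hg.unique h hβ hyc)
    simp only [MulAut.mul_apply, MulAut.apply_inv_self] at this
    rw [this]
    exact congrArg α hyf
  have hC : C = ⊥ := by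
    refine h.sat.eq_bot_of_invariant h.pg h.core (fun x hx => (hmem.mp hx).1) hinvS fun E hE => ?_
    have hCZ : C ≤ cen S := fun x hx => (hmem.mp hx).2.1
    refine ⟨hCZ.trans (h.cen_le_ess hE), fun ψ hψ y hy => ?_⟩
    rcases h.typeH_or hE (fun e => h.notEss (e ▸ hE)) with hH | ⟨-, hna⟩
    · obtain ⟨φ, hφ, hZ⟩ := exmov E hE hH
      haveI : Finite E := finite_of_le hE.1.1
      obtain ⟨hyS, hyc, hyf⟩ := hmem.mp hy
      have hall : ∀ χ ∈ F.autGroup E, y ∈ ((cen S).subgroupOf E).map χ.toMonoidHom := by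
        intro χ hχ
        by_cases hc : ((cen S).subgroupOf E).map χ.toMonoidHom = (cen S).subgroupOf E
        · rw [hc]; exact hyc
        · exact ((h.mem_inf_iff hβ hE hH hχ hc y).mpr ⟨hyc, hyf⟩).2
      have hm1 : ψ y ∈ (cen S).subgroupOf E := by
        obtain ⟨w, hw, he⟩ := hall ψ⁻¹ (inv_mem hψ)
        have he' : ψ⁻¹ w = y := he
        rw [← he', MulAut.apply_inv_self]
        exact hw
      have hm2 : ψ y ∈ ((cen S).subgroupOf E).map φ.toMonoidHom := by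
        obtain ⟨w, hw, he⟩ := hall (ψ⁻¹ * φ) (mul_mem (inv_mem hψ) hφ)
        have he' : ψ⁻¹ (φ w) = y := he
        rw [← he', MulAut.apply_inv_self]
        exact ⟨w, hw, rfl⟩
      obtain ⟨g1, g2⟩ := (h.mem_inf_iff hβ hE hH hφ hZ (ψ y)).mp (Subgroup.mem_inf.mpr ⟨hm1, hm2⟩)
      exact hmem.mpr ⟨_, g1, g2⟩
    · obtain ⟨γ, hγ, hγe⟩ := h.cenExt ((F.mem_autGroup_iff hE.1.1).mp hψ) hna
      obtain ⟨hyS, hyc, hyf⟩ := hmem.mp hy
      have e : ((ψ y : E) : Ω) = γ ⟨y, hyS⟩ := (hγe ⟨y, hyS⟩ hyc).2 y.2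
      rw [e]
      exact hinvS γ hγ _ hy
  obtain ⟨c, k, hR, hK, hko, htv⟩ := h.exists_tv hE₀ hH₀
  haveI : Finite E₀ := finite_of_le hE₀.1.1
  have hZeq : cen S = Subgroup.zpowers (k : Ω) := by
    refine le_antisymm (fun z hz => ?_) (hK ▸ inf_le_left)
    obtain ⟨w, hw, i, hi⟩ := htv.decomp hφ₀ hZ₀ (z := ⟨z, h.cen_le_ess hE₀ hz⟩) hz
    obtain ⟨g1, g2⟩ := (h.mem_inf_iff hβ hE₀ hH₀ hφ₀ hZ₀ w).mp hw
    have hw1 : (w : Ω) = 1 := by
      have : (w : Ω) ∈ C := hmem.mpr ⟨_, g1, g2⟩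
      rwa [hC, Subgroup.mem_bot] at this
    refine ⟨i, ?_⟩
    have := congrArg Subtype.val hi
    push_cast at this
    rw [hw1, one_mul] at this
    exact this.symm
  refine ⟨?_, by rw [hZeq, Nat.card_zpowers, hko]⟩
  rw [hZeq, ← hK]
  exact inf_le_right

theorem Hyp.maximal_class (h : Hyp p F A) {n : ℕ} (hn : Nat.card S = p ^ n) (h3 : 3 ≤ n) :
    Subgroup.lowerCentralSeries S (n - 2) ≠ ⊥ := by
  obtain ⟨E, hE, y, hy, hyA, -⟩ := h.exists_typeH
  have hc := h.cen_eq.2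
  haveI : Finite A := finite_of_le h.le
  have hker : ∀ (g : A), delta h.toHyp0 hy g = 1 → (g : Ω) ∈ cen S := fun g hg =>
    h.mem_cen hy hyA g.2 (commutatorElement_eq_one_iff_mul_comm.mp (congrArg Subtype.val hg))
  have key : ∀ i, ∃ H : Subgroup A, H.map A.subtype ≤ Subgroup.lowerCentralSeries S i ∧ Nat.card A ≤ Nat.card H * p ^ i := by
    intro i
    induction i with
    | zero => exact ⟨⊤, by rw [← MonoidHom.range_eq_map, Subgroup.range_subtype]; exact h.le, by simp⟩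
    | succ i ih =>
      obtain ⟨H, hH, hcard⟩ := ih
      refine ⟨H.map (delta h.toHyp0 hy), ?_, ?_⟩
      · rintro _ ⟨_, ⟨g, hg, rfl⟩, rfl⟩
        rw [Subgroup.lowerCentralSeries]
        exact Subgroup.commutator_mem_commutator (hH ⟨g, hg, rfl⟩) hy
      · set f := (delta h.toHyp0 hy).comp H.subtype with hf
        have hr : f.range = H.map (delta h.toHyp0 hy) := by rw [hf, MonoidHom.range_comp, Subgroup.range_subtype]
        have h1 : Nat.card H = Nat.card f.ker * Nat.card f.range := by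
          rw [← Subgroup.index_ker, Subgroup.card_mul_index]
        have h2 : Nat.card f.ker ≤ p := by
          rw [← hc]
          haveI : Finite (cen S) := finite_of_le inf_le_left
          refine Nat.card_le_card_of_injective (fun g => (⟨(((g : H) : A) : Ω), hker _ g.2⟩ : cen S)) fun a b e => ?_
          exact Subtype.ext (Subtype.ext (Subtype.ext (congrArg Subtype.val e : _)))
        rw [← hr]
        calc Nat.card A ≤ Nat.card H * p ^ i := hcard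
          _ ≤ p * Nat.card f.range * p ^ i := by rw [h1]; exact Nat.mul_le_mul_right _ (Nat.mul_le_mul_right _ h2)
          _ = Nat.card f.range * p ^ (i + 1) := by ring
  intro hbot
  obtain ⟨H, hH, hcard⟩ := key (n - 2)
  rw [hbot, le_bot_iff, Subgroup.map_eq_bot_iff_of_injective _ Subtype.coe_injective] at hH
  rw [hH, Subgroup.card_bot, one_mul] at hcard
  have hA : Nat.card A * p = p ^ n := by
    have := Subgroup.card_mul_index (A.subgroupOf S)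
    rwa [h.idx, Nat.card_congr (Subgroup.subgroupOfEquivOfLe h.le).toEquiv, hn] at this
  have h4 : p ^ n ≤ p ^ (n - 2) * p := hA ▸ Nat.mul_le_mul_right p hcard
  rw [← pow_succ, Nat.pow_le_pow_iff_right (Fact.out : p.Prime).one_lt] at h4
  omega

theorem main (hS : IsPGroup p S) (hF : F.IsSaturated p) (hp : p ≠ 2) (hna : ¬ IsMulCommutative S)
    (hA : A ≤ S ∧ IsMulCommutative A ∧ (A.subgroupOf S).index = p) (hcore : F.core = ⊥)
    (hAe : ¬ F.IsEssential p A) :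
    (∃ x ∈ S, x ∉ A ∧ F.IsEssential p (cen S ⊔ Subgroup.zpowers x)) ∧ cen S ≤ (commutator S).map S.subtype ∧
      ∀ n : ℕ, Nat.card S = p ^ n → 3 ≤ n → Subgroup.lowerCentralSeries S (n - 2) ≠ ⊥ := by
  have h : Hyp p F A := ⟨⟨hS, hF, hna, hA.1, hA.2.1, hA.2.2⟩, hp, hcore, hAe⟩
  refine ⟨?_, ?_, fun n => h.maximal_class⟩
  · obtain ⟨E, hE, x, hx, hxA, rfl⟩ := h.exists_typeH
    exact ⟨x, hx, hxA, hE⟩
  · rw [Subgroup.map_subtype_commutator]
    exact h.cen_eq.1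

end Cfsg.AbelianIndex
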