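import Cfsg.Agent.Lib.Fusion.AbelianIndex.Main

/-!
The shape of the essential subgroups other than `A`, and the resulting shape of `S`.
-/

set_option autoImplicit false
set_option linter.unusedSectionVars false

open scoped commutatorElement

namespace Cfsg.AbelianIndex

open Cfsg FusionSystem SmallCentre

variable {Ω : Type*} [Group Ω] {S : Subgroup Ω} [Finite S] {p : ℕ} [Fact p.Prime] {F : FusionSystem S}
  {A P : Subgroup Ω}

/-- The second centre, inside the ambient group. -/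
abbrev cen2 (S : Subgroup Ω) : Subgroup Ω := (Subgroup.upperCentralSeries ↥S 2).map S.subtype

theorem mem_cen2 {x : Ω} : x ∈ cen2 S ↔ x ∈ S ∧ ∀ y ∈ S, ⁅x, y⁆ ∈ cen S := by
  constructor
  · rintro ⟨w, hw, rfl⟩
    refine ⟨w.2, fun y hy => ?_⟩
    have := (Subgroup.mem_upperCentralSeries_succ_iff.mp hw) ⟨y, hy⟩
    rw [Subgroup.upperCentralSeries_one] at this
    have h2 := mem_cen_iff.mpr this
    simpa [commutatorElement_def] using h2
  · rintro ⟨hx, h⟩
    refine ⟨⟨x, hx⟩, Subgroup.mem_upperCentralSeries_succ_iff.mpr fun y => ?_, rfl⟩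
    rw [Subgroup.upperCentralSeries_one]
    refine mem_cen_iff.mp ?_
    have := h y y.2
    simpa [commutatorElement_def] using this

theorem Hyp0.mem_cen2_iff (h : Hyp0 p F A) {y : Ω} (hy : y ∈ S) (hyA : y ∉ A) {a : Ω} (ha : a ∈ A) :
    a ∈ cen2 S ↔ ⁅a, y⁆ ∈ cen S := by
  refine ⟨fun h2 => (mem_cen2.mp h2).2 y hy, fun hc => mem_cen2.mpr ⟨h.le ha, ?_⟩⟩
  let B : Subgroup Ω :=
    { carrier := {s | s ∈ S ∧ ⁅a, s⁆ ∈ cen S}
      one_mem' := ⟨S.one_mem, by rw [commutatorElement_one_right]; exact one_mem _⟩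
      mul_mem' := fun {u v} hu hv => ⟨S.mul_mem hu.1 hv.1, by
        rw [show ⁅a, u * v⁆ = ⁅a, u⁆ * (u * ⁅a, v⁆ * u⁻¹) by simp only [commutatorElement_def]; group,
          cen_comm hv.2 hu.1, mul_inv_cancel_right]
        exact mul_mem hu.2 hv.2⟩
      inv_mem' := fun {u} hu => ⟨S.inv_mem hu.1, by
        rw [show ⁅a, u⁻¹⁆ = u⁻¹ * ⁅a, u⁆⁻¹ * u⁻¹⁻¹ by simp only [commutatorElement_def]; group,
          cen_comm (inv_mem hu.2) (S.inv_mem hu.1), mul_inv_cancel_right]
        exact inv_mem hu.2⟩ }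
  have hle : S ≤ B := by
    conv_lhs => rw [← h.sup_A hy hyA]
    refine sup_le (fun g hg => ⟨h.le hg, ?_⟩) (Subgroup.zpowers_le.mpr ⟨hy, hc⟩)
    rw [commutatorElement_eq_one_iff_mul_comm.mpr (h.comm_mem ha hg)]
    exact one_mem _
  exact fun s hs => (hle hs).2

theorem Hyp0.cen_le_cen2 (_h : Hyp0 p F A) : cen S ≤ cen2 S := fun z hz => mem_cen2.mpr ⟨hz.1, fun y hy => by
  rw [commutatorElement_eq_one_iff_mul_comm.mpr (cen_comm hz hy).symm]
  exact one_mem _⟩

/-- A stabilised characteristic section of an essential subgroup contains no outer element. -/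
theorem Hyp0.mem_of_stab (h : Hyp0 p F A) (hP : F.IsEssential p P) {L : Subgroup P}
    (hL : ∀ α ∈ F.autGroup P, L.map α.toMonoidHom = L) {g : Ω} (hg : g ∈ S)
    (hgN : g ∈ Subgroup.normalizer (P : Set Ω)) (hfix : ∀ x : P, x ∈ L → g * (x : Ω) * g⁻¹ = x)
    (hmove : ∀ x : P, ∃ l ∈ L, g * (x : Ω) * g⁻¹ = (x : Ω) * (l : P)) : g ∈ P := by
  have hPS := hP.1.1
  haveI : Finite P := finite_of_le hPS
  haveI := finite_autGroup (F := F) hPS
  set V := F.autGroup P ⊓ stab L L le_rfl with hV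
  set V' := V.subgroupOf (F.autGroup P) with hV'
  haveI hn : V'.Normal := ⟨fun a ha θ => by
    refine Subgroup.mem_subgroupOf.mpr (Subgroup.mem_inf.mpr ⟨(θ * a * θ⁻¹).2, ?_⟩)
    obtain ⟨a1, a2, a3⟩ := (Subgroup.mem_inf.mp (Subgroup.mem_subgroupOf.mp ha)).2
    push_cast
    have hb : ∀ x ∈ L, ((θ : MulAut P) * a * (θ : MulAut P)⁻¹) x = x := fun x hx => by
      obtain ⟨w, hw, rfl⟩ := (hL θ θ.2).ge hx
      show (θ : MulAut P) ((a : MulAut P) ((θ : MulAut P)⁻¹ ((θ : MulAut P) w))) = (θ : MulAut P) w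
      rw [MulAut.inv_apply_self, a1 w hw]
    refine ⟨hb, fun x hx => by rw [hb x hx]; simp, fun x => (hL θ θ.2).le (Subgroup.mem_map.mpr
      ⟨((θ : MulAut P)⁻¹ x)⁻¹ * (a : MulAut P) ((θ : MulAut P)⁻¹ x), a3 _, ?_⟩)⟩
    show (θ : MulAut P) (((θ : MulAut P)⁻¹ x)⁻¹ * (a : MulAut P) ((θ : MulAut P)⁻¹ x)) = _
    rw [map_mul, map_inv, MulAut.apply_inv_self]
    rfl⟩
  have hVp : IsPGroup p V' :=
    ((isPGroup_stab (h.pg.to_le hPS) le_rfl).to_le inf_le_right).comap_of_injective (F.autGroup P).subtype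
      Subtype.coe_injective
  let α : MulAut P := P.normalizerMonoidHom ⟨g, hgN⟩
  have hαA : α ∈ F.autGroup P := autInducedBy_le_autGroup hPS (mem_autInducedBy_iff.mpr ⟨g, hg, hgN, fun _ => rfl⟩)
  have hαs : α ∈ stab L L le_rfl := by
    refine ⟨fun x hx => Subtype.ext (hfix x hx), fun x hx => ?_, fun x => ?_⟩
    · rw [show α x = x from Subtype.ext (hfix x hx)]; simp
    · obtain ⟨l, hl, e⟩ := hmove x
      rw [show α x = x * l from Subtype.ext e, inv_mul_cancel_left]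
      exact hl
  have h1 : α ∈ Inn P := by
    rw [← (hP.isRadical h.pg h.sat).2]
    exact ⟨⟨α, hαA⟩, le_sSup (show V' ∈ {Q : Subgroup (F.autGroup P) | Q.Normal ∧ IsPGroup p Q} from ⟨hn, hVp⟩)
      (Subgroup.mem_subgroupOf.mpr (Subgroup.mem_inf.mpr ⟨hαA, hαs⟩)), rfl⟩
  obtain ⟨s, hs⟩ := h1
  have hc : (s : Ω)⁻¹ * g ∈ centralizerIn S P := by
    refine ⟨S.mul_mem (S.inv_mem (hPS s.2)) hg, Subgroup.mem_centralizer_iff.mpr fun x hx => ?_⟩
    have e : (s : Ω) * x * (s : Ω)⁻¹ = g * x * g⁻¹ := congrArg (fun a : MulAut P => ((a ⟨x, hx⟩ : P) : Ω)) hs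
    calc x * ((s : Ω)⁻¹ * g) = (s : Ω)⁻¹ * ((s : Ω) * x * (s : Ω)⁻¹) * g := by group
      _ = (s : Ω)⁻¹ * (g * x * g⁻¹) * g := by rw [e]
      _ = _ := by group
  have := P.mul_mem s.2 (hP.1.centralizerIn_le_self hc)
  rwa [mul_inv_cancel_left] at this

/-- The nonabelian essential subgroups other than `A`. -/
theorem Hyp0.typeB (h : Hyp0 p F A) (hP : F.IsEssential p P) (hZ : ∀ z ∈ P, (∀ e ∈ P, e * z = z * e) → z ∈ cen S)
    (hna : ¬ IsMulCommutative P) {y : Ω} (hyP : y ∈ P) (hyA : y ∉ A) :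
    cen2 S ≤ A ∧ P = cen2 S ⊔ Subgroup.zpowers y ∧ Nat.card ↥(cen S ⊓ ⁅S, S⁆) = p ∧
      (P.subgroupOf (normalizerIn S P)).index = p := by
  have hpp : p.Prime := Fact.out
  have hPS := hP.1.1
  have hy := hPS hyP
  haveI : Finite P := finite_of_le hPS
  have hZP := h.cen_le_ess hP
  have hlt := hP.lt h.pg h.sat
  set Q := (P ⊓ A).subgroupOf P with hQ
  have hQmem : ∀ {x : P}, x ∈ Q ↔ (x : Ω) ∈ A := fun {x} => ⟨fun hx => hx.2, fun hx => ⟨x.2, hx⟩⟩
  have hcommQ : ∀ u v : P, ⁅u, v⁆ ∈ Q := fun u v => hQmem.mpr (by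
    have := h.commutator_le_A (Subgroup.commutator_mem_commutator (hPS u.2) (hPS v.2))
    simpa [commutatorElement_def] using this)
  haveI hQn : Q.Normal := ⟨fun n hn g => hQmem.mpr (by
    push_cast; exact h.conj_mem_A (hPS g.2) (hQmem.mp hn))⟩
  have hQidx : Q.index = p := by
    set q : P ⧸ Q := QuotientGroup.mk ⟨y, hyP⟩ with hq
    rw [Subgroup.index_eq_card, ← orderOf_eq_card_of_forall_mem_zpowers (g := q) ?_]
    · refine orderOf_eq_prime ?_ fun e => hyA (hQmem.mp ((QuotientGroup.eq_one_iff (⟨y, hyP⟩ : P)).mp e))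
      rw [hq, ← QuotientGroup.mk_pow, QuotientGroup.eq_one_iff]
      exact hQmem.mpr (by push_cast; exact h.pow_mem_A hy)
    · intro w
      obtain ⟨⟨e, he⟩, rfl⟩ := QuotientGroup.mk_surjective w
      obtain ⟨a, ha, i, rfl⟩ := h.decomp hy hyA (hPS he)
      refine ⟨i, ?_⟩
      show q ^ i = _
      rw [hq, ← QuotientGroup.mk_zpow, QuotientGroup.eq]
      refine hQmem.mpr ?_
      push_cast
      rw [show (y ^ i)⁻¹ * (a * y ^ i) = (y ^ i)⁻¹ * a * (y ^ i)⁻¹⁻¹ by group]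
      exact h.conj_mem_A (S.inv_mem (S.zpow_mem hy i)) ha
  -- some automorphism moves `P ∩ A`
  obtain ⟨φ, hφ, hφQ⟩ : ∃ φ ∈ F.autGroup P, Q.map φ.toMonoidHom ≠ Q := by
    by_contra hh
    push Not at hh
    obtain ⟨g, hgN, hgP⟩ := SetLike.exists_of_lt (lt_normalizerIn h.pg hlt)
    obtain ⟨a, ha, i, rfl⟩ := h.decomp hy hyA hgN.1
    refine hgP (P.mul_mem ?_ (P.zpow_mem hyP i))
    have haN : a ∈ Subgroup.normalizer (P : Set Ω) := by
      have := (Subgroup.normalizer (P : Set Ω)).mul_mem hgN.2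
        ((Subgroup.normalizer (P : Set Ω)).inv_mem (Subgroup.le_normalizer (P.zpow_mem hyP i)))
      rwa [mul_inv_cancel_right] at this
    refine h.mem_of_stab hP hh (h.le ha) haN (fun x hx => ?_) fun x => ?_
    · rw [h.comm_mem ha (hQmem.mp hx), mul_inv_cancel_right]
    · refine ⟨x⁻¹ * ⟨a * x * a⁻¹, (Subgroup.mem_normalizer_iff.mp haN x).mp x.2⟩, hQmem.mpr ?_, by simp⟩
      push_cast
      rw [show (x : Ω)⁻¹ * (a * x * a⁻¹) = ⁅(x : Ω)⁻¹, a⁆ by rw [commutatorElement_def]; group]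
      exact h.commutator_le_A (Subgroup.commutator_mem_commutator (S.inv_mem (hPS x.2)) (h.le ha))
  set Q₁ := Q.map φ.toMonoidHom with hQ₁
  have hQ₁idx : Q₁.index = p := by rw [hQ₁, Subgroup.index_map_of_bijective φ.bijective, hQidx]
  obtain ⟨y₁, hy₁, hy₁Q⟩ : ∃ y₁ ∈ Q₁, y₁ ∉ Q := by
    by_contra hh
    push Not at hh
    exact hφQ (Subgroup.eq_of_le_of_card_ge hh
      (le_of_eq (Nat.card_congr (Q.equivMapOfInjective _ φ.injective).toEquiv)))
  have hy₁A : (y₁ : Ω) ∉ A := fun hh => hy₁Q (hQmem.mpr hh)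
  have hQ₁comm : ∀ u v : P, u ∈ Q₁ → v ∈ Q₁ → u * v = v * u := by
    rintro _ _ ⟨u, hu, rfl⟩ ⟨v, hv, rfl⟩
    show φ u * φ v = φ v * φ u
    rw [← map_mul, ← map_mul, show u * v = v * u from Subtype.ext (h.comm_mem (hQmem.mp hu) (hQmem.mp hv))]
  have hboth : ∀ u : P, u ∈ Q → u ∈ Q₁ → (u : Ω) ∈ cen S := fun u hu hu₁ =>
    h.mem_cen (hPS y₁.2) hy₁A (hQmem.mp hu) (congrArg Subtype.val (hQ₁comm u y₁ hu₁ hy₁))
  have hQcen2 : ∀ u : P, u ∈ Q → (u : Ω) ∈ cen2 S := by
    intro u hu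
    refine (h.mem_cen2_iff hy hyA (hQmem.mp hu)).mpr ?_
    have h2 : ⁅u, (⟨y, hyP⟩ : P)⁆ ∈ Q₁ := by
      refine ⟨⁅φ⁻¹ u, φ⁻¹ ⟨y, hyP⟩⁆, hcommQ _ _, ?_⟩
      show φ ⁅φ⁻¹ u, φ⁻¹ (⟨y, hyP⟩ : P)⁆ = _
      rw [map_commutatorElement, MulAut.apply_inv_self, MulAut.apply_inv_self]
    have := hboth _ (hcommQ u ⟨y, hyP⟩) h2
    simpa [commutatorElement_def] using this
  have hcen2P : ∀ a ∈ A, a ∈ cen2 S → a ∈ P := by
    intro a haA ha2
    have hconj : ∀ g ∈ cen2 S, ∀ x ∈ P, g * x * g⁻¹ ∈ P := fun g hg x hx => by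
      rw [show g * x * g⁻¹ = ⁅g, x⁆ * x by rw [commutatorElement_def]; group]
      exact P.mul_mem (hZP ((mem_cen2.mp hg).2 x (hPS hx))) hx
    have haN : a ∈ Subgroup.normalizer (P : Set Ω) :=
      Subgroup.mem_normalizer_iff.mpr fun x => ⟨hconj a ha2 x, fun hx => by
        have := hconj a⁻¹ ((cen2 S).inv_mem ha2) _ hx
        simpa [mul_assoc] using this⟩
    refine h.mem_of_stab hP (L := (cen S).subgroupOf P) (fun α _ => ?_) (h.le haA) haN (fun x hx => ?_) fun x => ?_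
    · refine Subgroup.eq_of_le_of_card_ge ?_ (le_of_eq ?_)
      · rintro _ ⟨z, hz, rfl⟩
        refine hZ _ (α z).2 fun e he => ?_
        have hc : α⁻¹ ⟨e, he⟩ * z = z * α⁻¹ ⟨e, he⟩ :=
          Subtype.ext (cen_comm (Subgroup.mem_subgroupOf.mp hz) (hPS (α⁻¹ ⟨e, he⟩).2))
        have := congrArg (fun w => ((α w : P) : Ω)) hc
        simpa using this
      · exact Nat.card_congr (((cen S).subgroupOf P).equivMapOfInjective _ α.injective).toEquiv
    · rw [cen_comm (Subgroup.mem_subgroupOf.mp hx) (h.le haA), mul_inv_cancel_right]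
    · refine ⟨x⁻¹ * ⟨a * x * a⁻¹, hconj a ha2 x x.2⟩, ?_, by simp⟩
      show ((x⁻¹ * ⟨a * x * a⁻¹, hconj a ha2 x x.2⟩ : P) : Ω) ∈ cen S
      push_cast
      have hc := (mem_cen2.mp ha2).2 x (hPS x.2)
      rw [show (x : Ω)⁻¹ * (a * x * a⁻¹) = (x : Ω)⁻¹ * (⁅a, (x : Ω)⁆ * x) by rw [commutatorElement_def]; group,
        ← cen_comm hc (hPS x.2), inv_mul_cancel_left]
      exact hc
  have hle2 : cen2 S ≤ A := by
    intro w hw
    by_contra hwA
    refine hlt.ne (le_antisymm hPS ?_)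
    rw [← h.sup_A hy hyA]
    refine sup_le (fun a ha => hcen2P a ha ((h.mem_cen2_iff (mem_cen2.mp hw).1 hwA ha).mpr ?_)) (Subgroup.zpowers_le.mpr hyP)
    rw [← commutatorElement_inv]
    exact inv_mem ((mem_cen2.mp hw).2 a (h.le ha))
  have hPeq : P = cen2 S ⊔ Subgroup.zpowers y := by
    refine le_antisymm (fun e he => ?_) (sup_le (fun a ha => hcen2P a (hle2 ha) ha) (Subgroup.zpowers_le.mpr hyP))
    obtain ⟨a, ha, i, rfl⟩ := h.decomp hy hyA (hPS he)
    have haP : a ∈ P := (P.mul_mem_cancel_right (P.zpow_mem hyP i)).mp he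
    exact Subgroup.mul_mem_sup (hQcen2 ⟨a, haP⟩ (hQmem.mpr ha)) ⟨i, rfl⟩
  -- the section `(P ∩ A) / Z`
  set Zc := (cen S).subgroupOf P with hZc
  have hZQ : Zc ≤ Q := fun z hz => hQmem.mpr (h.cen_le_A hz)
  haveI : Q₁.Normal := CfsgLib.CyclicMax.normal_of_index_prime (h.pg.to_le hPS) hQ₁idx
  have hrel : Nat.card Q ≤ p * Nat.card Zc := by
    set f := (QuotientGroup.mk' Q₁).comp Q.subtype with hf
    have h1 : f.ker.index ≤ p := by
      rw [Subgroup.index_ker, ← hQ₁idx, Subgroup.index_eq_card]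
      exact Subgroup.card_le_card_group _
    have h2 : Nat.card f.ker ≤ Nat.card Zc := by
      refine Nat.card_le_card_of_injective (fun u => (⟨((u : Q) : P), hboth _ (u : Q).2
        ((QuotientGroup.eq_one_iff ((u : Q) : P)).mp u.2)⟩ : Zc)) fun a b e => ?_
      exact Subtype.ext (Subtype.ext (congrArg (fun w : Zc => (w : P)) e))
    rw [← Subgroup.card_mul_index f.ker, mul_comm p]
    exact Nat.mul_le_mul h2 h1
  have hQneZ : Zc ≠ Q := by
    intro e
    refine hna ⟨⟨fun u v => ?_⟩⟩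
    obtain ⟨a, ha, i, eu⟩ := h.decomp hy hyA (hPS u.2)
    obtain ⟨b, hb, j, ev⟩ := h.decomp hy hyA (hPS v.2)
    have key : ∀ (a : Ω) (i : ℤ), a ∈ A → a * y ^ i ∈ P → a ∈ cen S := fun a i ha hm => by
      have haP : a ∈ P := (P.mul_mem_cancel_right (P.zpow_mem hyP i)).mp hm
      have h1 : (⟨a, haP⟩ : P) ∈ Q := hQmem.mpr ha
      rw [← e] at h1
      exact h1
    have haz := key a i ha (eu ▸ u.2)
    have hbz := key b j hb (ev ▸ v.2)
    have c1 : Commute a b := h.comm_mem ha hb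
    have c2 : Commute a (y ^ j) := (cen_comm haz (S.zpow_mem hy j)).symm
    have c3 : Commute (y ^ i) b := cen_comm hbz (S.zpow_mem hy i)
    refine Subtype.ext ?_
    show (u : Ω) * v = v * u
    rw [eu, ev]
    exact Commute.mul_left (c1.mul_right c2) (c3.mul_right ((Commute.refl y).zpow_zpow i j))
  have hQcard : Nat.card Q = p * Nat.card Zc := by
    obtain ⟨r, hr⟩ := Subgroup.card_dvd_of_le hZQ
    obtain ⟨n, hn⟩ := IsPGroup.iff_card.mp ((h.pg.to_le hPS).to_subgroup Q)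
    have hrp : r ∣ p ^ n := hn ▸ hr ▸ Dvd.intro_left _ rfl
    obtain ⟨i, -, rfl⟩ := (Nat.dvd_prime_pow hpp).mp hrp
    have hpos : 0 < Nat.card Zc := Nat.card_pos
    have hi : i ≤ 1 := by
      by_contra hi
      have h2 : p * p ≤ p ^ i := by rw [← pow_two]; exact Nat.pow_le_pow_right hpp.pos (by omega)
      rw [hr] at hrel
      have := Nat.mul_le_mul_left (Nat.card Zc) h2
      nlinarith [hpp.two_le]
    interval_cases i
    · exact absurd (Subgroup.eq_of_le_of_card_ge hZQ (by rw [hr, pow_zero, mul_one])) hQneZ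
    · rw [hr, pow_one, mul_comm]
  let i₀ : Q →* A :=
    { toFun := fun u => ⟨((u : P) : Ω), hQmem.mp u.2⟩
      map_one' := rfl
      map_mul' := fun _ _ => rfl }
  set f := (delta h hy).comp i₀ with hf
  have hker : f.ker = Zc.subgroupOf Q := by
    ext u
    constructor
    · intro hu
      exact h.mem_cen hy hyA (hQmem.mp u.2) (commutatorElement_eq_one_iff_mul_comm.mp (congrArg Subtype.val hu))
    · intro hu
      exact Subtype.ext (commutatorElement_eq_one_iff_mul_comm.mpr (cen_comm (Subgroup.mem_subgroupOf.mp hu) hy).symm)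
  have hidxQ : (Zc.subgroupOf Q).index = p := by
    have e := Subgroup.card_mul_index (Zc.subgroupOf Q)
    rw [Nat.card_congr (Subgroup.subgroupOfEquivOfLe hZQ).toEquiv, hQcard, mul_comm p] at e
    exact Nat.eq_of_mul_eq_mul_left Nat.card_pos e
  have hK : f.range.map A.subtype = cen S ⊓ ⁅S, S⁆ := by
    refine le_antisymm ?_ fun z hz => ?_
    · rintro _ ⟨_, ⟨u, rfl⟩, rfl⟩
      exact Subgroup.mem_inf.mpr ⟨(mem_cen2.mp (hQcen2 u u.2)).2 y hy,
        Subgroup.commutator_mem_commutator (hPS (u : P).2) hy⟩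
    · have hz2 : z ∈ ⁅S, S⁆ := (Subgroup.mem_inf.mp hz).2
      rw [h.commutator_eq hy hyA] at hz2
      obtain ⟨_, ⟨a, rfl⟩, rfl⟩ := hz2
      have haP := hcen2P a a.2 ((h.mem_cen2_iff hy hyA a.2).mpr (Subgroup.mem_inf.mp hz).1)
      exact ⟨_, ⟨⟨⟨a, haP⟩, hQmem.mpr a.2⟩, rfl⟩, rfl⟩
  have hKcard : Nat.card ↥(cen S ⊓ ⁅S, S⁆) = p := by
    rw [← hK, Subgroup.card_subtype, ← Subgroup.index_ker, hker, hidxQ]
  refine ⟨hle2, hPeq, hKcard, ?_⟩
  -- the index in the normalizer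
  set N := normalizerIn S P with hN
  have hPN : P ≤ N := le_normalizerIn hPS
  haveI : Finite N := finite_of_le inf_le_left
  haveI : Finite ↥(S ⊓ Subgroup.normalizer (P : Set Ω)) := finite_of_le inf_le_left
  haveI : Finite ↥(A ⊓ N) := finite_of_le (inf_le_left.trans h.le)
  set Na := A ⊓ N with hNa
  haveI hPn : (P.subgroupOf N).Normal := (Subgroup.normal_subgroupOf_iff_le_normalizer hPN).mpr inf_le_right
  have hδ : ∀ a : Na, ⁅(a : Ω), y⁆ ∈ P := fun a => by
    rw [commutatorElement_def]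
    exact P.mul_mem ((Subgroup.mem_normalizer_iff.mp (Subgroup.mem_inf.mp a.2).2.2 y).mp hyP) (P.inv_mem hyP)
  let g : Na →* Q :=
    { toFun := fun a => ⟨⟨⁅(a : Ω), y⁆, hδ a⟩, hQmem.mpr
        (h.commutator_le_A (Subgroup.commutator_mem_commutator (h.le a.2.1) hy))⟩
      map_one' := Subtype.ext (Subtype.ext (by simp))
      map_mul' := fun a b => by
        have := congrArg Subtype.val ((delta h hy).map_mul ⟨(a : Ω), a.2.1⟩ ⟨(b : Ω), b.2.1⟩)
        exact Subtype.ext (Subtype.ext this) }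
  haveI : (Zc.subgroupOf Q).Normal := ⟨fun n hn w => by
    have e : w * n * w⁻¹ = n := by
      refine Subtype.ext (Subtype.ext ?_)
      push_cast
      rw [cen_comm (Subgroup.mem_subgroupOf.mp (Subgroup.mem_subgroupOf.mp hn)) (hPS (w : P).2), mul_inv_cancel_right]
    rw [e]; exact hn⟩
  set g' := (QuotientGroup.mk' (Zc.subgroupOf Q)).comp g with hg'
  have hcard1 : g'.ker.index ≤ p := by
    rw [Subgroup.index_ker]
    exact le_trans (Subgroup.card_le_card_group _) (le_of_eq (by rw [← Subgroup.index_eq_card, hidxQ]))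
  have hkerg : g'.ker ≤ (P.subgroupOf N).comap (Subgroup.inclusion inf_le_right : Na →* N) := by
    intro a ha
    have h1' : g a ∈ Zc.subgroupOf Q := (QuotientGroup.eq_one_iff (g a)).mp ha
    have h1 : ⁅(a : Ω), y⁆ ∈ cen S := h1'
    exact hcen2P _ a.2.1 ((h.mem_cen2_iff hy hyA a.2.1).mpr h1)
  have hsurj : Function.Surjective ((QuotientGroup.mk' (P.subgroupOf N)).comp (Subgroup.inclusion inf_le_right : Na →* N)) := by
    intro w
    obtain ⟨⟨x, hx⟩, rfl⟩ := QuotientGroup.mk_surjective w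
    obtain ⟨a, ha, i, rfl⟩ := h.decomp hy hyA hx.1
    have haN : a ∈ N := (N.mul_mem_cancel_right (N.zpow_mem (hPN hyP) i)).mp hx
    refine ⟨⟨a, ha, haN⟩, ?_⟩
    show ((⟨a, haN⟩ : N) : N ⧸ P.subgroupOf N) = _
    refine QuotientGroup.eq.mpr (Subgroup.mem_subgroupOf.mpr ?_)
    push_cast
    rw [inv_mul_cancel_left]
    exact P.zpow_mem hyP i
  have hle : (P.subgroupOf N).index ≤ p := by
    have h2 : ((QuotientGroup.mk' (P.subgroupOf N)).comp (Subgroup.inclusion inf_le_right : Na →* N)).ker.index ≤ g'.ker.index :=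
      Nat.le_of_dvd (Nat.pos_of_ne_zero Subgroup.index_ne_zero_of_finite) (Subgroup.index_dvd_of_le
        (hkerg.trans fun a ha => (QuotientGroup.eq_one_iff _).mpr ha))
    rw [Subgroup.index_ker, MonoidHom.range_eq_top.mpr hsurj, Subgroup.card_top, ← Subgroup.index_eq_card] at h2
    exact h2.trans hcard1
  obtain ⟨n, hn⟩ := IsPGroup.iff_card.mp (h.pg.to_le (inf_le_left : N ≤ S))
  obtain ⟨i, -, hi⟩ := (Nat.dvd_prime_pow hpp).mp (hn ▸ (P.subgroupOf N).index_dvd_card)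
  rw [hi] at hle ⊢
  have hi1 : i ≤ 1 := (Nat.pow_le_pow_iff_right hpp.one_lt).mp (hle.trans_eq (pow_one p).symm)
  interval_cases i
  · rw [pow_zero, Subgroup.index_eq_one, Subgroup.subgroupOf_eq_top] at hi
    exact absurd hi (lt_normalizerIn h.pg hlt).not_ge
  · exact pow_one p

theorem Hyp0.typeH_index (h : Hyp0 p F A) (hP : F.IsEssential p P) (hH : TypeH S A P) :
    (P.subgroupOf (normalizerIn S P)).index = p := by
  obtain ⟨c, k, hR, hK, hko, htv⟩ := h.exists_tv hP hH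
  have hPS := hP.1.1
  haveI : Finite P := finite_of_le hPS
  haveI : Finite ↥(normalizerIn S P) := finite_of_le inf_le_left
  have hC : centralizerIn S P = P :=
    le_antisymm hP.1.centralizerIn_le_self fun x hx =>
      ⟨hPS hx, Subgroup.mem_centralizer_iff.mpr fun w hw => congrArg Subtype.val (htv.comm ⟨w, hw⟩ ⟨x, hx⟩)⟩
  have hc := card_autInducedBy_mul S P
  have hco : Nat.card (autInducedBy S P) = p := by
    rw [hR, Nat.card_zpowers]
    obtain ⟨φ, hφ, hφZ⟩ := htv.exists_moving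
    have hfix : c ≠ 1 := fun e => htv.apply_k_not_mem hφ hφZ ((htv.fix (φ k)).mp (by rw [e]; rfl))
    refine orderOf_eq_prime ?_ hfix
    refine MulEquiv.ext fun w => ?_
    obtain ⟨i, hi⟩ := htv.apply_of_mul w
    have hn : ∀ n : ℕ, (c ^ n) w = w * (k ^ i) ^ n := by
      intro n
      induction n with
      | zero => simp
      | succ n ih =>
        rw [pow_succ', MulAut.mul_apply, ih, map_mul, map_pow, map_zpow, (htv.fix k).mpr htv.kZ, hi,
          pow_succ', mul_assoc]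
    rw [hn, ← zpow_natCast, ← zpow_mul, mul_comm, zpow_mul, zpow_natCast, ← htv.korder, pow_orderOf_eq_one, one_zpow,
      mul_one]
    rfl
  rw [hC, hco] at hc
  have e := Subgroup.card_mul_index (P.subgroupOf (normalizerIn S P))
  rw [Nat.card_congr (Subgroup.subgroupOfEquivOfLe (le_normalizerIn hPS)).toEquiv, ← hc, mul_comm p] at e
  exact Nat.eq_of_mul_eq_mul_left Nat.card_pos e

theorem essential_classification (hS : IsPGroup p S) (hF : F.IsSaturated p) (hp : p ≠ 2)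
    (hna : ¬ IsMulCommutative S) (hA : A ≤ S ∧ IsMulCommutative A ∧ (A.subgroupOf S).index = p)
    (hP : F.IsEssential p P) :
    (P = A ∨ (∃ x ∈ S, x ∉ A ∧ P = cen S ⊔ Subgroup.zpowers x) ∨
      (cen2 S ≤ A ∧ ∃ x ∈ S, x ∉ A ∧ P = cen2 S ⊔ Subgroup.zpowers x)) ∧
      (P.subgroupOf (S ⊓ Subgroup.normalizer (P : Set Ω))).index = p := by
  have h : Hyp0 p F A := ⟨hS, hF, hna, hA.1, hA.2.1, hA.2.2⟩
  by_cases hPA : P = A
  · subst hPA
    refine ⟨Or.inl rfl, ?_⟩
    rw [inf_eq_left.mpr h.normalizer_A]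
    exact h.idx
  rcases h.typeH_or hP hPA with hH | ⟨hZ, hna'⟩
  · refine ⟨Or.inr (Or.inl ?_), h.typeH_index hP hH⟩
    obtain ⟨x, hx, hxA, e⟩ := hH
    exact ⟨x, hx, hxA, e⟩
  · obtain ⟨y, hyP, hyA⟩ := h.exists_not_mem_A hP hPA
    obtain ⟨h1, h2, -, h3⟩ := h.typeB hP hZ hna' hyP hyA
    exact ⟨Or.inr (Or.inr ⟨h1, y, hP.1.1 hyP, hyA, h2⟩), h3⟩

theorem structure_of_essential (hS : IsPGroup p S) (hF : F.IsSaturated p) (hp : p ≠ 2)
    (hna : ¬ IsMulCommutative S) (hA : A ≤ S ∧ IsMulCommutative A ∧ (A.subgroupOf S).index = p)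
    (huniq : ∀ B : Subgroup Ω, B ≤ S → IsMulCommutative B → (B.subgroupOf S).index = p → B = A)
    (hP : F.IsEssential p P) (hPA : P ≠ A) :
    cen2 S ≤ A ∧ Nat.card ↥(cen S ⊓ (commutator S).map S.subtype) = p ∧
      ((cen S ⊔ (commutator S).map S.subtype).subgroupOf A).index = p ∧
      ((cen S).subgroupOf (cen2 S)).index = p ∧
      ∀ m : ℕ, ((cen S).subgroupOf S).index = p ^ m → 3 ≤ m → ¬ Subgroup.lowerCentralSeries S (m - 2) ≤ cen S := by
  have h : Hyp0 p F A := ⟨hS, hF, hna, hA.1, hA.2.1, hA.2.2⟩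
  have hpp : p.Prime := Fact.out
  haveI : Finite A := finite_of_le h.le
  haveI hfc : Finite (cen S) := finite_of_le inf_le_left
  obtain ⟨y, hyP, hyA⟩ := h.exists_not_mem_A hP hPA
  have hy := hP.1.1 hyP
  rw [Subgroup.map_subtype_commutator]
  set D := (delta h hy).range with hD
  have hDS : D.map A.subtype = ⁅S, S⁆ := (h.commutator_eq hy hyA).symm
  set Zc := (cen S).subgroupOf A with hZc
  have hker : (delta h hy).ker = Zc := by
    ext u
    constructor
    · intro hu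
      exact h.mem_cen hy hyA u.2 (commutatorElement_eq_one_iff_mul_comm.mp (congrArg Subtype.val hu))
    · intro hu
      exact Subtype.ext (commutatorElement_eq_one_iff_mul_comm.mpr (cen_comm (Subgroup.mem_subgroupOf.mp hu) hy).symm)
  have hDcard : Nat.card D = Zc.index := by rw [hD, ← Subgroup.index_ker, hker]
  -- the basic facts in the two cases
  have hboth : cen2 S ≤ A ∧ Nat.card ↥(cen S ⊓ ⁅S, S⁆) = p := by
    rcases h.typeH_or hP hPA with hH | ⟨hZ, hna'⟩
    · obtain ⟨c, k, -, hK, hko, htv⟩ := h.exists_tv hP hH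
      have hKc : Nat.card ↥(cen S ⊓ ⁅S, S⁆) = p := by rw [hK, Nat.card_zpowers, hko]
      refine ⟨fun w hw => ?_, hKc⟩
      by_contra hwA
      have hws := (mem_cen2.mp hw).1
      have hS'Z : ⁅S, S⁆ ≤ cen S := by
        rw [h.commutator_eq hws hwA]
        rintro _ ⟨_, ⟨a, rfl⟩, rfl⟩
        show ⁅(a : Ω), w⁆ ∈ cen S
        rw [← commutatorElement_inv]
        exact inv_mem ((mem_cen2.mp hw).2 a (h.le a.2))
      have hidx : Zc.index = p := by
        rw [← hDcard, ← Subgroup.card_subtype A D, hDS, ← inf_eq_right.mpr hS'Z, hKc]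
      haveI : Finite P := finite_of_le hP.1.1
      have hcardP : Nat.card P = Nat.card A := by
        have e1 := Subgroup.card_mul_index ((cen S).subgroupOf P)
        rw [htv.idx, Nat.card_congr (Subgroup.subgroupOfEquivOfLe (h.cen_le_ess hP)).toEquiv] at e1
        have e2 := Subgroup.card_mul_index Zc
        rw [hidx, Nat.card_congr (Subgroup.subgroupOfEquivOfLe h.cen_le_A).toEquiv] at e2
        rw [← e1, ← e2]
      refine hPA (huniq P hP.1.1 ⟨⟨htv.comm⟩⟩ ?_)
      have e1 := Subgroup.card_mul_index (P.subgroupOf S)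
      have e2 := Subgroup.card_mul_index (A.subgroupOf S)
      rw [Nat.card_congr (Subgroup.subgroupOfEquivOfLe hP.1.1).toEquiv] at e1
      rw [Nat.card_congr (Subgroup.subgroupOfEquivOfLe h.le).toEquiv, h.idx, ← e1, hcardP] at e2
      exact (Nat.eq_of_mul_eq_mul_left Nat.card_pos e2).symm
    · obtain ⟨h1, -, h2, -⟩ := h.typeB hP hZ hna' hyP hyA
      exact ⟨h1, h2⟩
  obtain ⟨hle2, hKc⟩ := hboth
  have hKD : Nat.card ↥(D ⊓ Zc) = p := by
    rw [← hKc, ← Subgroup.card_subtype A (D ⊓ Zc), Subgroup.map_inf _ _ _ Subtype.coe_injective, hDS,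
      Subgroup.map_subgroupOf_eq_of_le h.cen_le_A, inf_comm]
  refine ⟨hle2, hKc, ?_, ?_, fun m hm h3 => ?_⟩
  · haveI hn : ∀ H : Subgroup A, H.Normal := fun H => ⟨fun n hn g => by
      rw [show g * n = n * g from Subtype.ext (h.comm_mem g.2 n.2), mul_inv_cancel_right]; exact hn⟩
    have hsub : (cen S ⊔ ⁅S, S⁆).subgroupOf A = Zc ⊔ D := by
      apply Subgroup.map_injective A.subtype_injective
      rw [Subgroup.map_subgroupOf_eq_of_le (sup_le h.cen_le_A h.commutator_le_A), Subgroup.map_sup, hDS,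
        Subgroup.map_subgroupOf_eq_of_le h.cen_le_A]
    rw [hsub, sup_comm]
    have e0 := Subgroup.index_map D (delta h hy)
    rw [hker, ← hD] at e0
    set f := (delta h hy).comp D.subtype with hf
    have e1 : Nat.card D = Nat.card f.ker * Nat.card (D.map (delta h hy)) := by
      have : f.range = D.map (delta h hy) := by rw [hf, MonoidHom.range_comp, Subgroup.range_subtype]
      rw [← this]
      exact (Subgroup.index_ker f ▸ Subgroup.card_mul_index f.ker).symm
    have e2 : Nat.card f.ker = p := by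
      rw [← hKD, hf, ← MonoidHom.comap_ker, hker]
      exact Nat.card_congr ⟨fun u => ⟨((u : D) : A), Subgroup.mem_inf.mpr ⟨(u : D).2, u.2⟩⟩,
        fun u => ⟨⟨(u : A), (Subgroup.mem_inf.mp u.2).1⟩, (Subgroup.mem_inf.mp u.2).2⟩, fun _ => rfl, fun _ => rfl⟩
    rw [e2] at e1
    have e3 := Subgroup.card_mul_index (D.map (delta h hy))
    have e4 := Subgroup.card_mul_index D
    rw [e0] at e3
    rw [e1] at e4
    have hpos : 0 < Nat.card (D.map (delta h hy)) * D.index :=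
      Nat.mul_pos Nat.card_pos (Nat.pos_of_ne_zero Subgroup.index_ne_zero_of_finite)
    refine Nat.eq_of_mul_eq_mul_left hpos ?_
    calc Nat.card (D.map (delta h hy)) * D.index * (D ⊔ Zc).index
        = Nat.card (D.map (delta h hy)) * ((D ⊔ Zc).index * D.index) := by ring
      _ = p * Nat.card (D.map (delta h hy)) * D.index := by rw [e3, e4]
      _ = _ := by ring
  · haveI : Finite (cen2 S) := finite_of_le (Subgroup.map_subtype_le _)
    set f := (delta h hy).comp (Subgroup.inclusion hle2) with hf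
    have hfker : f.ker = (cen S).subgroupOf (cen2 S) := by
      rw [hf, ← MonoidHom.comap_ker, hker]
      ext u
      exact Iff.rfl
    have hrange : f.range.map A.subtype = cen S ⊓ ⁅S, S⁆ := by
      refine le_antisymm ?_ fun z hz => ?_
      · rintro _ ⟨_, ⟨u, rfl⟩, rfl⟩
        exact Subgroup.mem_inf.mpr ⟨(mem_cen2.mp u.2).2 y hy,
          Subgroup.commutator_mem_commutator (mem_cen2.mp u.2).1 hy⟩
      · have hz2 : z ∈ ⁅S, S⁆ := (Subgroup.mem_inf.mp hz).2
        rw [← hDS] at hz2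
        obtain ⟨_, ⟨a, rfl⟩, rfl⟩ := hz2
        exact ⟨_, ⟨⟨a, (h.mem_cen2_iff hy hyA a.2).mpr (Subgroup.mem_inf.mp hz).1⟩, rfl⟩, rfl⟩
    rw [← hfker, Subgroup.index_ker, ← Subgroup.card_subtype A, hrange, hKc]
  · intro hle
    have hcardD : Nat.card D * p = p ^ m := by
      have e1 := Subgroup.card_mul_index ((cen S).subgroupOf S)
      have e2 := Subgroup.card_mul_index Zc
      have e3 := Subgroup.card_mul_index (A.subgroupOf S)
      rw [Nat.card_congr (Subgroup.subgroupOfEquivOfLe (inf_le_left : cen S ≤ S)).toEquiv, hm] at e1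
      rw [Nat.card_congr (Subgroup.subgroupOfEquivOfLe h.cen_le_A).toEquiv, ← hDcard] at e2
      rw [Nat.card_congr (Subgroup.subgroupOfEquivOfLe h.le).toEquiv, h.idx, ← e2, ← e1, mul_assoc] at e3
      exact Nat.eq_of_mul_eq_mul_left Nat.card_pos e3
    have key : ∀ i, ∃ H : Subgroup A, H ≤ D ∧ H.map A.subtype ≤ Subgroup.lowerCentralSeries S (i + 1) ∧
        Nat.card D ≤ Nat.card H * p ^ i := by
      intro i
      induction i with
      | zero =>
        refine ⟨D, le_rfl, ?_, by simp⟩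
        rw [hDS, Subgroup.lowerCentralSeries, Subgroup.lowerCentralSeries]
      | succ i ih =>
        obtain ⟨H, hHD, hH, hcard⟩ := ih
        refine ⟨H.map (delta h hy), ?_, ?_, ?_⟩
        · rintro _ ⟨g, -, rfl⟩; exact ⟨g, rfl⟩
        · rintro _ ⟨_, ⟨g, hg, rfl⟩, rfl⟩
          rw [Subgroup.lowerCentralSeries]
          exact Subgroup.commutator_mem_commutator (hH ⟨g, hg, rfl⟩) hy
        · set f := (delta h hy).comp H.subtype with hf
          have hr : f.range = H.map (delta h hy) := by rw [hf, MonoidHom.range_comp, Subgroup.range_subtype]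
          have h1 : Nat.card H = Nat.card f.ker * Nat.card f.range := by
            rw [← Subgroup.index_ker, Subgroup.card_mul_index]
          have h2 : Nat.card f.ker ≤ p := by
            rw [← hKD]
            refine Nat.card_le_card_of_injective (fun g => (⟨((g : H) : A), Subgroup.mem_inf.mpr
              ⟨hHD (g : H).2, hker ▸ (g.2 : delta h hy ((g : H) : A) = 1)⟩⟩ : ↥(D ⊓ Zc))) fun a b e => ?_
            exact Subtype.ext (Subtype.ext (congrArg Subtype.val e : _))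
          rw [← hr]
          calc Nat.card D ≤ Nat.card H * p ^ i := hcard
            _ ≤ p * Nat.card f.range * p ^ i := by rw [h1]; exact Nat.mul_le_mul_right _ (Nat.mul_le_mul_right _ h2)
            _ = Nat.card f.range * p ^ (i + 1) := by ring
    obtain ⟨H, hHD, hH, hcard⟩ := key (m - 3)
    rw [show m - 3 + 1 = m - 2 by omega] at hH
    have hHle : Nat.card H ≤ p := by
      rw [← hKD]
      refine Subgroup.card_le_of_le (le_inf hHD fun g hg => ?_)
      exact hle (hH ⟨g, hg, rfl⟩)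
    have h4 : p ^ m ≤ p * p ^ (m - 3) * p := hcardD ▸ Nat.mul_le_mul_right p (hcard.trans (Nat.mul_le_mul_right _ hHle))
    rw [show p * p ^ (m - 3) * p = p ^ (m - 1) by
      conv_rhs => rw [show m - 1 = (m - 3) + 1 + 1 by omega, pow_succ, pow_succ]
      ring, Nat.pow_le_pow_iff_right hpp.one_lt] at h4
    omega

end Cfsg.AbelianIndex
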